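import Groth.Agent.WEtaleVal.Normal
import Groth.Agent.WEtaleVal.Basic
import Groth.Agent.HenselLib.EtaleNormal
import Groth.Prelude.Def_Pi1
import Mathlib.AlgebraicGeometry.Properties
import Mathlib.AlgebraicGeometry.Morphisms.Flat
import Mathlib.AlgebraicGeometry.Morphisms.Etale
import Mathlib.AlgebraicGeometry.Morphisms.QuasiFinite
import Mathlib.RingTheory.LocalProperties.IntegrallyClosed

/-!
Finite etale schemes over a normal integral scheme are finite disjoint unions of normal integral schemes.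
-/

set_option autoImplicit false
set_option backward.isDefEq.respectTransparency false
set_option linter.style.haveILetI false

universe u

open CategoryTheory AlgebraicGeometry TopologicalSpace

namespace Groth.Agent.FEtGalois

theorem isIntegrallyClosed_app {X : Scheme.{u}} [IsIntegral X] (hX : Pi1.IsNormalScheme X) {U : X.Opens}
    (hU : IsAffineOpen U) [Nonempty U] : IsIntegrallyClosed Γ(X, U) := by
  refine IsIntegrallyClosed.of_localization_maximal fun p _ _ => ?_
  let z : PrimeSpectrum Γ(X, U) := ⟨p, inferInstance⟩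
  have hz : hU.fromSpec z ∈ U := hU.range_fromSpec.le ⟨z, rfl⟩
  letI := TopCat.Presheaf.algebra_section_stalk X.presheaf (⟨hU.fromSpec z, hz⟩ : U)
  haveI : IsLocalization.AtPrime (X.presheaf.stalk (hU.fromSpec z)) p := hU.isLocalization_stalk' z hz
  let e := IsLocalization.algEquiv p.primeCompl (Localization.AtPrime p) (X.presheaf.stalk (hU.fromSpec z))
  haveI := (hX (hU.fromSpec z)).2
  exact IsIntegrallyClosed.of_equiv e.toRingEquiv.symm

/-- Schemes etale over a normal integral scheme are normal. -/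
theorem isNormal_of_etale {X Y : Scheme.{u}} [IsIntegral X] (hX : Pi1.IsNormalScheme X) (g : Y ⟶ X) [Etale g] :
    Pi1.IsNormalScheme Y := by
  intro y
  obtain ⟨U, hU, hyU, -⟩ := exists_isAffineOpen_mem_and_subset (Opens.mem_top (g y))
  obtain ⟨V, hV, hyV, hVU⟩ := exists_isAffineOpen_mem_and_subset (show y ∈ g ⁻¹ᵁ U from hyU)
  haveI : Nonempty U := ⟨⟨g y, hyU⟩⟩
  have het : (g.appLE U V hVU).hom.Etale := HasRingHomProperty.appLE @Etale g ‹_› ⟨U, hU⟩ ⟨V, hV⟩ hVU
  letI := (g.appLE U V hVU).hom.toAlgebra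
  haveI : Algebra.Etale Γ(X, U) Γ(Y, V) := het
  haveI := isIntegrallyClosed_app hX hU
  let q := (hV.primeIdealOf ⟨y, hyV⟩).asIdeal
  letI := TopCat.Presheaf.algebra_section_stalk Y.presheaf (⟨y, hyV⟩ : V)
  haveI : IsLocalization.AtPrime (Y.presheaf.stalk y) q := hV.isLocalization_stalk ⟨y, hyV⟩
  letI : Algebra Γ(X, U) (Y.presheaf.stalk y) := ((algebraMap Γ(Y, V) _).comp (algebraMap Γ(X, U) Γ(Y, V))).toAlgebra
  haveI : IsScalarTower Γ(X, U) Γ(Y, V) (Y.presheaf.stalk y) := .of_algebraMap_eq fun _ => rfl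
  haveI : Algebra.WeaklyEtale Γ(Y, V) (Y.presheaf.stalk y) :=
    WEtaleVal.weaklyEtale_of_isLocalization q.primeCompl
  haveI : Algebra.WeaklyEtale Γ(X, U) (Y.presheaf.stalk y) :=
    Algebra.WeaklyEtale.trans Γ(X, U) Γ(Y, V) (Y.presheaf.stalk y)
  exact WEtaleVal.normal_of_weaklyEtale_local Γ(X, U) (Y.presheaf.stalk y)

/-- Etale schemes over a reduced scheme are reduced. -/
theorem isReduced_of_etale {X Y : Scheme.{u}} [IsReduced X] (g : Y ⟶ X) [Etale g] : IsReduced Y := by
  haveI : ∀ y : Y, _root_.IsReduced (Y.presheaf.stalk y) := by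
    intro y
    obtain ⟨U, hU, hyU, -⟩ := exists_isAffineOpen_mem_and_subset (Opens.mem_top (g y))
    obtain ⟨V, hV, hyV, hVU⟩ := exists_isAffineOpen_mem_and_subset (show y ∈ g ⁻¹ᵁ U from hyU)
    have het : (g.appLE U V hVU).hom.Etale := HasRingHomProperty.appLE @Etale g ‹_› ⟨U, hU⟩ ⟨V, hV⟩ hVU
    letI := (g.appLE U V hVU).hom.toAlgebra
    haveI : Algebra.Etale Γ(X, U) Γ(Y, V) := het
    haveI := HenselLib.isReduced_of_etale Γ(X, U) Γ(Y, V)
    let q := (hV.primeIdealOf ⟨y, hyV⟩).asIdeal
    letI := TopCat.Presheaf.algebra_section_stalk Y.presheaf (⟨y, hyV⟩ : V)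
    haveI : IsLocalization.AtPrime (Y.presheaf.stalk y) q := hV.isLocalization_stalk ⟨y, hyV⟩
    exact isReduced_localizationPreserves q.primeCompl (Y.presheaf.stalk y) (show _root_.IsReduced Γ(Y, V) from inferInstance)
  exact isReduced_of_isReduced_stalk Y

section components

variable {X Y : Scheme.{u}} [IsIntegral X] (hX : Pi1.IsNormalScheme X) (g : Y ⟶ X) [IsFinite g] [Etale g]

omit [IsFinite g] in
theorem map_genericPoint_component {Z : Set Y} (hZ : Z ∈ irreducibleComponents Y) {ζ : Y}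
    (hζ : IsGenericPoint ζ Z) : g ζ = genericPoint X := by
  obtain ⟨p, hp⟩ : genericPoint X ∈ Set.range (X.fromSpecStalk (g ζ)) := by
    rw [Scheme.range_fromSpecStalk]; exact genericPoint_specializes (g ζ)
  algebraize [(g.stalkMap ζ).hom]
  haveI : Module.Flat (X.presheaf.stalk (g ζ)) (Y.presheaf.stalk ζ) := Flat.stalkMap g ζ
  haveI : IsLocalHom (algebraMap (X.presheaf.stalk (g ζ)) (Y.presheaf.stalk ζ)) :=
    inferInstanceAs (IsLocalHom (g.stalkMap ζ).hom)
  haveI := Module.FaithfullyFlat.of_flat_of_isLocalHom (A := X.presheaf.stalk (g ζ)) (B := Y.presheaf.stalk ζ)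
  obtain ⟨q, hq⟩ := PrimeSpectrum.comap_surjective_of_faithfullyFlat (A := X.presheaf.stalk (g ζ))
    (B := Y.presheaf.stalk ζ) p
  have h1 : g (Y.fromSpecStalk ζ q) = genericPoint X := by
    rw [← hp, ← hq, ← Scheme.Hom.comp_apply, ← Scheme.SpecMap_stalkMap_fromSpecStalk]
    rfl
  have h2 : Y.fromSpecStalk ζ q ⤳ ζ := by
    have := Scheme.range_fromSpecStalk (x := ζ)
    exact this.le ⟨q, rfl⟩
  have h3 : closure {Y.fromSpecStalk ζ q} = Z :=
    le_antisymm (hZ.2 isIrreducible_singleton.closure (hζ.def ▸ closure_minimal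
      (Set.singleton_subset_iff.2 (specializes_iff_mem_closure.1 h2)) isClosed_closure))
      (hζ.def ▸ closure_minimal (Set.singleton_subset_iff.2 (specializes_iff_mem_closure.1 h2)) isClosed_closure)
  rwa [hζ.eq (h3 ▸ isGenericPoint_closure)]

include g in
theorem finite_irreducibleComponents : (irreducibleComponents Y).Finite := by
  have hgen : ∀ Z : irreducibleComponents Y, ∃ ζ : Y, IsGenericPoint ζ Z.1 :=
    fun Z => QuasiSober.sober Z.2.1 (isClosed_of_mem_irreducibleComponents _ Z.2)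
  choose ζ hζ using hgen
  haveI : Finite (g ⁻¹' {genericPoint X}) := (g.finite_preimage_singleton _).to_subtype
  refine Set.finite_coe_iff.1 (Finite.of_injective
    (fun Z : irreducibleComponents Y => (⟨ζ Z, map_genericPoint_component g Z.2 (hζ Z)⟩ : g ⁻¹' {genericPoint X})) ?_)
  intro Z Z' h
  exact Subtype.ext (((hζ Z).def.symm.trans (congrArg (fun w : g ⁻¹' {genericPoint X} => closure {w.1}) h)).trans (hζ Z').def)

omit [IsFinite g] in
include hX g in
theorem component_unique (x : Y) {Z Z' : Set Y} (hZ : Z ∈ irreducibleComponents Y)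
    (hZ' : Z' ∈ irreducibleComponents Y) (hxZ : x ∈ Z) (hxZ' : x ∈ Z') : Z = Z' := by
  haveI := (isNormal_of_etale hX g x).1
  let η : Y := Y.fromSpecStalk x (⊥ : PrimeSpectrum (Y.presheaf.stalk x))
  suffices ∀ W, W ∈ irreducibleComponents Y → x ∈ W → closure {η} = W from
    (this Z hZ hxZ).symm.trans (this Z' hZ' hxZ')
  intro W hW hxW
  obtain ⟨ζ, hζ⟩ := QuasiSober.sober hW.1 (isClosed_of_mem_irreducibleComponents W hW)
  obtain ⟨p, hp⟩ : ζ ∈ Set.range (Y.fromSpecStalk x) := by
    rw [Scheme.range_fromSpecStalk]; exact hζ.specializes hxW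
  have h1 : η ⤳ ζ := by
    rw [← hp]
    exact ((PrimeSpectrum.le_iff_specializes (⊥ : PrimeSpectrum (Y.presheaf.stalk x)) p).mp bot_le).map
      (Y.fromSpecStalk x).continuous
  have h2 : W ≤ closure {η} := by
    rw [← hζ.def]
    exact closure_minimal (Set.singleton_subset_iff.mpr (specializes_iff_mem_closure.mp h1)) isClosed_closure
  exact le_antisymm (hW.2 isIrreducible_singleton.closure h2) h2

include hX g in
theorem isClopen_component {Z : Set Y} (hZ : Z ∈ irreducibleComponents Y) : IsClopen Z := by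
  have hfin := (finite_irreducibleComponents g).sdiff (t := {Z})
  have hcl : IsClosed (⋃₀ (irreducibleComponents Y \ {Z})) :=
    Set.sUnion_eq_biUnion ▸ hfin.isClosed_biUnion fun W hW => isClosed_of_mem_irreducibleComponents W hW.1
  have hcompl : Z = (⋃₀ (irreducibleComponents Y \ {Z}))ᶜ := by
    ext y
    refine ⟨fun hy hy' => ?_, fun hy => ?_⟩
    · obtain ⟨W, ⟨hW, hne⟩, hyW⟩ := hy'
      exact hne (component_unique hX g y hW hZ hyW hy)
    · by_contra hy0
      exact hy ⟨irreducibleComponent y, ⟨irreducibleComponent_mem_irreducibleComponents y,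
        fun he => hy0 ((Set.mem_singleton_iff.mp he) ▸ mem_irreducibleComponent)⟩, mem_irreducibleComponent⟩
  exact ⟨isClosed_of_mem_irreducibleComponents Z hZ, hcompl ▸ hcl.isOpen_compl⟩

include hX g in
theorem isIntegral_of_connected [ConnectedSpace Y] : IsIntegral Y := by
  haveI := isReduced_of_etale g
  obtain ⟨x₀⟩ := (inferInstance : Nonempty Y)
  have hZ := irreducibleComponent_mem_irreducibleComponents x₀
  have h2 := hZ.1
  rw [(isClopen_component hX g hZ).eq_univ ⟨x₀, mem_irreducibleComponent⟩] at h2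
  haveI : IrreducibleSpace Y := (irreducibleSpace_def _).mpr h2
  exact isIntegral_of_irreducibleSpace_of_isReduced Y

end components

end Groth.Agent.FEtGalois
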