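import Groth.Agent.FEtGalois.Galois
import Mathlib.Topology.Clopen

/-!
Restriction of finite etale covers is fully faithful when clopen subsets correspond.
-/

set_option autoImplicit false
set_option backward.isDefEq.respectTransparency false
set_option linter.style.haveILetI false

universe u

open CategoryTheory CategoryTheory.Limits AlgebraicGeometry

noncomputable section

namespace Groth.Agent.FEtGalois

variable {X' X : Scheme.{u}} (i : X' ⟶ X)

/-- Clopen subsets of covers correspond to those of their restrictions. -/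
def ClopenCorresp : Prop :=
  (∀ (P : FEt.Cat X) (C : Set P.left), IsClopen C → pullback.fst P.hom i ⁻¹' C = ∅ → C = ∅) ∧
  (∀ (P : FEt.Cat X) (C' : Set ↥(pullback P.hom i)), IsClopen C' →
    ∃ C : Set P.left, IsClopen C ∧ pullback.fst P.hom i ⁻¹' C = C')

theorem isClopen_range {Y Z : FEt.Cat X} (φ : Y ⟶ Z) : IsClopen (Set.range φ.left) :=
  ⟨φ.left.isClosedMap.isClosed_range, φ.left.isOpenMap.isOpen_range⟩

theorem restrict_map_fst {Y Z : FEt.Cat X} (φ : Y ⟶ Z) :
    ((FEt.restrict i).map φ).left ≫ pullback.fst Z.hom i = pullback.fst Y.hom i ≫ φ.left := by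
  simp [FEt.restrict]

theorem surjective_of_restrict (h : ClopenCorresp i) {Y Z : FEt.Cat X} (φ : Y ⟶ Z)
    (hs : Function.Surjective ((FEt.restrict i).map φ).left) : Function.Surjective φ.left := by
  have h1 := h.1 Z _ (isClopen_range φ).compl (Set.eq_empty_iff_forall_notMem.2 fun z' hz' => ?_)
  · exact Set.range_eq_univ.1 (Set.compl_empty_iff.1 h1)
  · obtain ⟨y', rfl⟩ := hs z'
    refine hz' ⟨pullback.fst Y.hom i y', ?_⟩
    change (pullback.fst Y.hom i ≫ φ.left) y' = (((FEt.restrict i).map φ).left ≫ pullback.fst Z.hom i) y'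
    rw [restrict_map_fst]
    rfl

theorem isIso_of_surjective_mono {Y Z : FEt.Cat X} (φ : Y ⟶ Z) [Mono φ] (hs : Function.Surjective φ.left) :
    IsIso φ :=
  isIso_of_bijective φ fun _ _ _ ξ =>
    ⟨(mono_iff_injective ((FEt.fiber ξ).map φ)).1 inferInstance,
      fun z => (mem_range_map_iff φ ξ z).2 (hs _)⟩

theorem isIso_of_isIso_restrict (h : ClopenCorresp i) {Y Z : FEt.Cat X} (φ : Y ⟶ Z)
    [IsIso ((FEt.restrict i).map φ)] : IsIso φ := by
  haveI := (restrict_exact i).1
  have hsurj : ∀ {U V : FEt.Cat X'} (ψ : U ⟶ V) [IsIso ψ], Function.Surjective ψ.left := by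
    intro U V ψ _ z
    refine ⟨(inv ψ).left z, ?_⟩
    have h1 : (inv ψ).left ≫ ψ.left = 𝟙 V.left := congrArg (fun k : V ⟶ V => k.left) (IsIso.inv_hom_id ψ)
    rw [← Scheme.Hom.comp_apply, h1]
    rfl
  haveI : Mono φ := by
    haveI : IsIso ((FEt.restrict i).map (pullback.fst φ φ)) := by
      rw [← PreservesPullback.iso_hom_fst]
      infer_instance
    haveI : IsIso ((FEt.restrict i).map (pullback.diagonal φ)) := by
      refine @IsIso.of_isIso_comp_right _ _ _ _ _ _ ((FEt.restrict i).map (pullback.fst φ φ)) _ ?_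
      rw [← Functor.map_comp, pullback.diagonal_fst]
      infer_instance
    haveI := isIso_of_surjective_mono (pullback.diagonal φ) (surjective_of_restrict i h _ (hsurj _))
    exact (pullback.isIso_diagonal_iff φ).1 inferInstance
  exact isIso_of_surjective_mono φ (surjective_of_restrict i h φ (hsurj _))

theorem faithful_of_clopen (h : ClopenCorresp i) : (FEt.restrict i).Faithful where
  map_injective {Y Z} f g hfg := by
    haveI := (restrict_exact i).1
    haveI : IsIso (equalizer.ι ((FEt.restrict i).map f) ((FEt.restrict i).map g)) := equalizer.ι_of_eq hfg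
    haveI : IsIso ((FEt.restrict i).map (equalizer.ι f g)) := by
      rw [← equalizerComparison_comp_π f g (FEt.restrict i)]
      infer_instance
    haveI := isIso_of_isIso_restrict i h (equalizer.ι f g)
    exact eq_of_epi_equalizer

/-- A clopen subset of a cover as an open subscheme. -/
def clopenOpens (P : FEt.Cat X) {C : Set P.left} (hC : IsClopen C) : P.left.Opens := ⟨C, hC.2⟩

/-- A clopen subset of a cover as a cover. -/
def clopenObj (P : FEt.Cat X) {C : Set P.left} (hC : IsClopen C) : FEt.Cat X :=
  MorphismProperty.Over.mk _ ((clopenOpens P hC).ι ≫ P.hom)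
    ⟨by
      haveI : IsClosedImmersion (clopenOpens P hC).ι :=
        IsClosedImmersion.of_isPreimmersion _ (by rw [Scheme.Opens.range_ι]; exact hC.1)
      infer_instance, inferInstance⟩

/-- Its inclusion. -/
def clopenHom (P : FEt.Cat X) {C : Set P.left} (hC : IsClopen C) : clopenObj P hC ⟶ P :=
  MorphismProperty.Over.homMk (clopenOpens P hC).ι rfl

instance (P : FEt.Cat X) {C : Set P.left} (hC : IsClopen C) : Mono (clopenHom P hC) :=
  ⟨fun _ _ h => hom_ext' ((cancel_mono (clopenOpens P hC).ι).1 (congrArg (fun k => k.left) h))⟩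

theorem range_restrict_clopenHom (P : FEt.Cat X) {C : Set P.left} (hC : IsClopen C) :
    Set.range ((FEt.restrict i).map (clopenHom P hC)).left = pullback.fst P.hom i ⁻¹' C := by
  apply Set.Subset.antisymm
  · rintro _ ⟨z, rfl⟩
    change (((FEt.restrict i).map (clopenHom P hC)).left ≫ pullback.fst P.hom i) z ∈ C
    rw [restrict_map_fst]
    exact Subtype.property (pullback.fst (clopenObj P hC).hom i z : (clopenOpens P hC))
  · intro x hx
    let U : (pullback P.hom i).Opens := pullback.fst P.hom i ⁻¹ᵁ clopenOpens P hC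
    let k : (U : Scheme.{u}) ⟶ pullback (clopenObj P hC).hom i :=
      pullback.lift ((pullback.fst P.hom i) ∣_ clopenOpens P hC) (U.ι ≫ pullback.snd P.hom i) (by
        change _ ≫ (clopenOpens P hC).ι ≫ P.hom = _
        rw [morphismRestrict_ι_assoc, pullback.condition, Category.assoc])
    refine ⟨k ⟨x, hx⟩, ?_⟩
    have : k ≫ ((FEt.restrict i).map (clopenHom P hC)).left = U.ι := by
      apply pullback.hom_ext
      · rw [Category.assoc, restrict_map_fst, pullback.lift_fst_assoc]
        exact morphismRestrict_ι _ _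
      · simp [FEt.restrict, k]
    exact congr($this ⟨x, hx⟩)

/-- Monomorphisms of covers are open immersions. -/
theorem isOpenImmersion_of_mono {Y Z : FEt.Cat X} (φ : Y ⟶ Z) [Mono φ] : IsOpenImmersion φ.left := by
  haveI : Mono φ.left := by
    haveI : PreservesFiniteLimits (MorphismProperty.Over.forget FEt.prop ⊤ X) := inferInstance
    haveI : Mono ((MorphismProperty.Over.forget FEt.prop ⊤ X).map φ) := inferInstance
    exact (inferInstance : Mono ((MorphismProperty.Over.forget FEt.prop ⊤ X).map φ).left)
  exact IsOpenImmersion.of_flat_of_mono φ.left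

theorem exists_iso_of_range_eq {A B P : FEt.Cat X} (a : A ⟶ P) (b : B ⟶ P) [Mono a] [Mono b]
    (h : Set.range a.left = Set.range b.left) : ∃ e : A ≅ B, e.hom ≫ b = a := by
  haveI := isOpenImmersion_of_mono a
  haveI := isOpenImmersion_of_mono b
  let e := IsOpenImmersion.isoOfRangeEq a.left b.left h
  have he : e.hom ≫ b.left = a.left := IsOpenImmersion.isoOfRangeEq_hom_fac _ _ _
  let m : A ⟶ B := MorphismProperty.Over.homMk e.hom (by
    rw [← MorphismProperty.Over.w b, ← Category.assoc, he, MorphismProperty.Over.w a])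
  haveI : IsIso m.left := inferInstanceAs (IsIso e.hom)
  haveI := isIso_of_isIso_left m
  exact ⟨asIso m, hom_ext' he⟩

theorem full_of_clopen (h : ClopenCorresp i) : (FEt.restrict i).Full where
  map_surjective {Y Z} ψ := by
    haveI := (restrict_exact i).1
    let H := FEt.restrict i
    let p : H.obj Y ⟶ H.obj (Y ⨯ Z) := prod.lift (𝟙 _) ψ ≫ inv (prodComparison H Y Z)
    have hp1 : p ≫ H.map prod.fst = 𝟙 _ := by
      rw [Category.assoc, inv_prodComparison_map_fst, prod.lift_fst]
    have hp2 : p ≫ H.map prod.snd = ψ := by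
      rw [Category.assoc, inv_prodComparison_map_snd, prod.lift_snd]
    haveI : Mono p := (SplitMono.mk (H.map prod.fst) hp1).mono
    obtain ⟨C, hC, hC'⟩ := h.2 (Y ⨯ Z) _ (isClopen_range p)
    obtain ⟨e, he⟩ := exists_iso_of_range_eq (H.map (clopenHom _ hC)) p
      ((range_restrict_clopenHom i _ hC).trans hC')
    let q := clopenHom _ hC ≫ prod.fst
    have hq : H.map q = e.hom := by
      rw [Functor.map_comp, ← he, Category.assoc, hp1, Category.comp_id]
    haveI : IsIso (H.map q) := hq ▸ inferInstance
    haveI : IsIso q := isIso_of_isIso_restrict i h q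
    refine ⟨inv q ≫ clopenHom _ hC ≫ prod.snd, ?_⟩
    change H.map _ = ψ
    rw [Functor.map_comp, Functor.map_comp, Functor.map_inv, IsIso.inv_comp_eq, hq, ← he, Category.assoc, hp2]

end Groth.Agent.FEtGalois
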