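import Groth.Agent.FEtGalois.Fibres
import Groth.Agent.FEtGalois.FullFaith
import Groth.Prelude.Def_Pi1
import Mathlib.AlgebraicGeometry.Morphisms.Finite
import Mathlib.CategoryTheory.Limits.Types.Products
import Mathlib.CategoryTheory.Limits.Types.Equalizers
import Mathlib.CategoryTheory.Limits.Preserves.Shapes.Products
import Mathlib.CategoryTheory.Limits.Preserves.Shapes.Equalizers
import Mathlib.CategoryTheory.Limits.Shapes.Products
import Mathlib.Data.Fintype.CardEmbedding

/-!
# The cover of frames of a finite etale cover of constant degree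
-/

universe u

open CategoryTheory CategoryTheory.Limits AlgebraicGeometry

set_option backward.isDefEq.respectTransparency false
set_option linter.style.haveILetI false

noncomputable section

namespace Groth.Agent.FEtGalois

theorem isFinite_sigmaDesc_fin {n : ℕ} {B : Scheme.{u}} (W : Fin n → Scheme.{u}) (f : ∀ i, W i ⟶ B)
    (h : ∀ i, IsFinite (f i)) : IsFinite (Sigma.desc f) := by
  induction n with
  | zero =>
    have : IsEmpty ↥(∐ W) := ⟨fun x => by
      obtain ⟨j, -⟩ := (sigmaOpenCover W).exists_eq x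
      exact Fin.elim0 j⟩
    infer_instance
  | succ n ih =>
    have := ih (fun i => W i.succ) (fun i => f i.succ) (fun i => h _)
    have := h 0
    let hc := extendCofanIsColimit W (c₁ := Cofan.mk (∐ fun i : Fin n => W i.succ) (Sigma.ι fun i : Fin n => W i.succ))
      (c₂ := BinaryCofan.mk coprod.inl coprod.inr)
      (coproductIsCoproduct _) (coprodIsCoprod (W 0) (∐ fun i : Fin n => W i.succ))
    let e : W 0 ⨿ (∐ fun i : Fin n => W i.succ) ≅ ∐ W := hc.coconePointUniqueUpToIso (coproductIsCoproduct W)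
    have he : e.hom ≫ Sigma.desc f = coprod.desc (f 0) (Sigma.desc fun i : Fin n => f i.succ) := by
      have hι := fun i => hc.comp_coconePointUniqueUpToIso_hom (coproductIsCoproduct W) ⟨i⟩
      apply coprod.hom_ext
      · rw [coprod.inl_desc, ← Category.assoc]
        exact (congrArg (· ≫ Sigma.desc f) (hι 0)).trans (Sigma.ι_desc _ _)
      · rw [coprod.inr_desc, ← Category.assoc]
        refine Sigma.hom_ext _ _ fun i => ?_
        rw [Sigma.ι_desc, ← Category.assoc, ← Category.assoc]
        exact (congrArg (· ≫ Sigma.desc f) (hι i.succ)).trans (Sigma.ι_desc _ _)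
    rw [← MorphismProperty.cancel_left_of_respectsIso (P := @IsFinite) e.hom, he]
    infer_instance

variable {X : Scheme.{u}}

/-- `n` copies of the base. -/
def copies (X : Scheme.{u}) (n : ℕ) : FEt.Cat X :=
  MorphismProperty.Over.mk _ (Sigma.desc fun _ : Fin n => 𝟙 X)
    ⟨isFinite_sigmaDesc_fin _ _ fun _ => inferInstance, by
      refine IsZariskiLocalAtSource.of_openCover (P := @Etale) (sigmaOpenCover fun _ : Fin n => X) fun i => ?_
      change Etale (Sigma.ι (fun _ : Fin n => X) i ≫ Sigma.desc _)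
      rw [Sigma.ι_desc]; infer_instance⟩

/-- A cover with `n` sections separating all geometric fibres of cardinality `n` is split. -/
theorem isSplit_of_sections {Z : FEt.Cat X} {n : ℕ} (σ : Fin n → (X ⟶ Z.left)) (hσ : ∀ i, σ i ≫ Z.hom = 𝟙 X)
    (h : ∀ (Ω : Type u) [Field Ω] [IsAlgClosed Ω] (ξ : Spec (CommRingCat.of Ω) ⟶ X),
      Function.Injective (fun i => ξ ≫ σ i) ∧ Nat.card ((FEt.fiber ξ).obj Z) = n) : Pi1.IsSplit Z := by
  let φ : copies X n ⟶ Z := MorphismProperty.Over.homMk (Sigma.desc σ) (by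
    refine Sigma.hom_ext _ _ fun i => ?_
    simp [copies, hσ])
  haveI : IsIso φ := isIso_of_bijective φ fun Ω _ _ ξ => by
    obtain ⟨hinj, hcard⟩ := h Ω ξ
    have hpt : ∀ s : (FEt.fiber ξ).obj (copies X n), ∃ i, s.1 = ξ ≫ Sigma.ι (fun _ : Fin n => X) i := fun s => by
      obtain ⟨i, y, hy⟩ := (sigmaOpenCover fun _ : Fin n => X).exists_eq (s.1 default)
      have hr : Set.range s.1 ⊆ Set.range (Sigma.ι (fun _ : Fin n => X) i) := by
        rintro _ ⟨p, rfl⟩
        rw [Subsingleton.elim p default]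
        exact ⟨y, hy⟩
      refine ⟨i, ?_⟩
      conv_lhs => rw [← IsOpenImmersion.lift_fac (Sigma.ι (fun _ : Fin n => X) i) s.1 hr]
      refine congrArg (· ≫ _) ?_
      have h2 := s.2
      conv_rhs => rw [← h2, ← IsOpenImmersion.lift_fac (Sigma.ι (fun _ : Fin n => X) i) s.1 hr]
      rw [Category.assoc]
      exact (Category.comp_id _).symm.trans (congrArg (_ ≫ ·) (Sigma.ι_desc (f := fun _ : Fin n => X) (fun _ => 𝟙 X) i).symm)
    let m : Fin n → (FEt.fiber ξ).obj (copies X n) := fun i => ⟨ξ ≫ Sigma.ι (fun _ : Fin n => X) i, by simp [copies]⟩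
    have hm : Function.Surjective m := fun s => ⟨(hpt s).choose, Subtype.ext (hpt s).choose_spec.symm⟩
    have hφm : Function.Injective ((FEt.fiber ξ).map φ ∘ m) := fun i j hij => hinj (by
      have := congrArg Subtype.val hij
      change (ξ ≫ Sigma.ι (fun _ : Fin n => X) i) ≫ Sigma.desc σ = (ξ ≫ Sigma.ι (fun _ : Fin n => X) j) ≫ Sigma.desc σ at this
      simpa using this)
    have hbm : Function.Bijective m := ⟨fun i j hij => hφm (congrArg (fun z => (FEt.fiber ξ).map φ z) hij), hm⟩
    have hb : Function.Bijective ((FEt.fiber ξ).map φ ∘ m) :=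
      hφm.bijective_of_nat_card_le (by rw [hcard, Nat.card_fin])
    have := hb.comp (Equiv.ofBijective m hbm).symm.bijective
    convert this using 1
    funext s
    exact congrArg _ ((Equiv.ofBijective m hbm).apply_symm_apply s).symm
  let e : (∐ fun _ : Fin n => X) ≅ Z.left := ⟨φ.left, (inv φ).left,
    congrArg (fun k => k.left) (IsIso.hom_inv_id φ), congrArg (fun k => k.left) (IsIso.inv_hom_id φ)⟩
  refine ⟨ULift.{u} (Fin n), inferInstance,
    e.symm ≪≫ Sigma.whiskerEquiv (f := fun _ : Fin n => X) (g := fun _ : ULift.{u} (Fin n) => X) Equiv.ulift.symm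
      (fun _ => Iso.refl _), fun i => ?_⟩
  simp [e, φ, hσ, Sigma.whiskerEquiv]

variable (Y : FEt.Cat X) (n : ℕ)

/-- The `n`-fold product. -/
abbrev power : FEt.Cat X := ∏ᶜ fun _ : Fin n => Y

/-- The locus where two coordinates agree. -/
def agree (i j : Fin n) : Set (power Y n).left :=
  Set.range (equalizer.ι (Pi.π (fun _ : Fin n => Y) i) (Pi.π (fun _ : Fin n => Y) j)).left

/-- The locus of frames. -/
def frameLocus : Set (power Y n).left := ⋂ p : {p : Fin n × Fin n // p.1 ≠ p.2}, (agree Y n p.1.1 p.1.2)ᶜ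

theorem isClopen_frameLocus : IsClopen (frameLocus Y n) :=
  isClopen_iInter_of_finite fun _ => (isClopen_range _).compl

/-- The cover of frames. -/
def frames : FEt.Cat X := clopenObj (power Y n) (isClopen_frameLocus Y n)

/-- The coordinates of a frame. -/
def coord (i : Fin n) : frames Y n ⟶ Y := clopenHom _ _ ≫ Pi.π (fun _ : Fin n => Y) i

variable {Ω : Type u} [Field Ω] (ξ : Spec (CommRingCat.of Ω) ⟶ X)

theorem power_points : Function.Bijective fun (s : (FEt.fiber ξ).obj (power Y n)) i =>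
    (FEt.fiber ξ).map (Pi.π (fun _ : Fin n => Y) i) s := by
  have h := isLimitFanMkObjOfIsLimit (FEt.fiber ξ) _ _ (productIsProduct fun _ : Fin n => Y)
  have hb := (Types.isLimit_iff_bijective_sectionOfCone _).1 ⟨h⟩
  refine ⟨fun s t hst => hb.1 (Subtype.ext (funext fun ⟨i⟩ => congrFun hst i)), fun v => ?_⟩
  obtain ⟨s, hs⟩ := hb.2 ⟨fun i => v i.as, fun {a b} g => by
    obtain ⟨a⟩ := a; obtain ⟨b⟩ := b; obtain rfl : a = b := Discrete.eq_of_hom g; simp⟩
  exact ⟨s, funext fun i => congrFun (congrArg Subtype.val hs) ⟨i⟩⟩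

theorem mem_agree_iff [IsAlgClosed Ω] (i j : Fin n) (s : (FEt.fiber ξ).obj (power Y n)) :
    s.1 default ∈ agree Y n i j ↔
      (FEt.fiber ξ).map (Pi.π (fun _ : Fin n => Y) i) s = (FEt.fiber ξ).map (Pi.π (fun _ : Fin n => Y) j) s := by
  rw [agree, ← mem_range_map_iff]
  constructor
  · rintro ⟨t, rfl⟩
    rw [← ConcreteCategory.comp_apply, ← ConcreteCategory.comp_apply, ← Functor.map_comp, ← Functor.map_comp,
      equalizer.condition]
  · intro h
    have hl := isLimitForkMapOfIsLimit (FEt.fiber ξ) _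
      (equalizerIsEqualizer (Pi.π (fun _ : Fin n => Y) i) (Pi.π (fun _ : Fin n => Y) j))
    obtain ⟨t, ht, -⟩ := (Types.type_equalizer_iff_unique _ _).1 ⟨hl⟩ s h
    exact ⟨t, ht⟩

theorem coord_points [IsAlgClosed Ω] :
    Function.Injective (fun (s : (FEt.fiber ξ).obj (frames Y n)) i => (FEt.fiber ξ).map (coord Y n i) s) ∧
    Set.range (fun (s : (FEt.fiber ξ).obj (frames Y n)) i => (FEt.fiber ξ).map (coord Y n i) s) =
      {v | Function.Injective v} := by
  let ev := fun (s : (FEt.fiber ξ).obj (power Y n)) i => (FEt.fiber ξ).map (Pi.π (fun _ : Fin n => Y) i) s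
  let j := (FEt.fiber ξ).map (clopenHom (power Y n) (isClopen_frameLocus Y n))
  refine ⟨fun s t hst => ?_, Set.ext fun v => ⟨?_, fun hv => ?_⟩⟩
  · have h2 : j s = j t := (power_points Y n ξ).1 hst
    exact Subtype.ext ((cancel_mono (clopenOpens (power Y n) (isClopen_frameLocus Y n)).ι).1 (congrArg Subtype.val h2))
  · rintro ⟨s, rfl⟩ a b hab
    by_contra hne
    have hs : (j s).1 default ∈ frameLocus Y n := (s.1 default).2
    exact (Set.mem_iInter.1 hs ⟨(a, b), hne⟩) ((mem_agree_iff Y n ξ a b (j s)).2 hab)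
  · obtain ⟨s, rfl⟩ := (power_points Y n ξ).2 v
    have hs : s.1 default ∈ frameLocus Y n := Set.mem_iInter.2 fun p hp =>
      p.2 (hv ((mem_agree_iff Y n ξ _ _ s).1 hp))
    let U := clopenOpens (power Y n) (isClopen_frameLocus Y n)
    have hr : Set.range s.1 ⊆ Set.range U.ι := by
      rw [Scheme.Opens.range_ι]
      rintro _ ⟨p, rfl⟩
      rw [Subsingleton.elim p default]
      exact hs
    refine ⟨⟨IsOpenImmersion.lift U.ι s.1 hr, ?_⟩, ?_⟩
    · exact ((Category.assoc _ _ _).symm.trans (congrArg (· ≫ (power Y n).hom) (IsOpenImmersion.lift_fac _ _ _))).trans s.2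
    · funext i
      refine Subtype.ext ?_
      exact (Category.assoc _ _ _).symm.trans (congrArg (· ≫ (Pi.π (fun _ : Fin n => Y) i).left) (IsOpenImmersion.lift_fac _ _ _))

theorem card_frames [IsAlgClosed Ω] (h : Nat.card ((FEt.fiber ξ).obj Y) = n) :
    Nat.card ((FEt.fiber ξ).obj (frames Y n)) = n.factorial := by
  obtain ⟨h1, h2⟩ := coord_points Y n ξ
  rw [Nat.card_congr (Equiv.ofInjective _ h1), h2,
    Nat.card_congr ((Equiv.setCongr (rfl : {v : Fin n → (FEt.fiber ξ).obj Y | Function.Injective v} = _)).trans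
      (Equiv.subtypeInjectiveEquivEmbedding (Fin n) ((FEt.fiber ξ).obj Y)))]
  haveI := Fintype.ofFinite ((FEt.fiber ξ).obj Y)
  rw [Nat.card_eq_fintype_card] at h
  rw [Nat.card_eq_fintype_card, Fintype.card_embedding_eq, h, Fintype.card_fin, Nat.descFactorial_self]

/-- The cover is split over its frames. -/
theorem isSplit_frames (h : ∀ (Ω : Type u) [Field Ω] [IsAlgClosed Ω] (ξ : Spec (CommRingCat.of Ω) ⟶ X),
    Nat.card ((FEt.fiber ξ).obj Y) = n) :
    Pi1.IsSplit ((FEt.restrict (frames Y n).hom).obj Y) := by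
  refine isSplit_of_sections (n := n)
    (fun i => pullback.lift (coord Y n i).left (𝟙 _) (by rw [Category.id_comp]; exact MorphismProperty.Over.w _))
    (fun i => pullback.lift_snd _ _ _) fun Ω _ _ ζ => ⟨fun a b hab => ?_, ?_⟩
  · let s : (FEt.fiber (ζ ≫ (frames Y n).hom)).obj (frames Y n) := ⟨ζ, rfl⟩
    have hinj : Function.Injective fun i => (FEt.fiber (ζ ≫ (frames Y n).hom)).map (coord Y n i) s := by
      have := (coord_points Y n (ζ ≫ (frames Y n).hom)).2
      exact (Set.ext_iff.1 this _).1 ⟨s, rfl⟩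
    refine hinj (Subtype.ext ?_)
    have h3 := congrArg (· ≫ pullback.fst Y.hom (frames Y n).hom) hab
    simp only [Category.assoc, pullback.lift_fst] at h3
    exact h3
  · refine (Nat.card_congr ?_).trans (h Ω (ζ ≫ (frames Y n).hom))
    exact {
      toFun := fun s => ⟨s.1 ≫ pullback.fst Y.hom (frames Y n).hom, by
        rw [Category.assoc, pullback.condition, ← Category.assoc]; exact congrArg (· ≫ _) s.2⟩
      invFun := fun t => ⟨pullback.lift t.1 ζ t.2, pullback.lift_snd _ _ _⟩
      left_inv := fun s => Subtype.ext (pullback.hom_ext (pullback.lift_fst _ _ _)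
        ((pullback.lift_snd _ _ _).trans s.2.symm))
      right_inv := fun t => Subtype.ext (pullback.lift_fst _ _ _) }

end Groth.Agent.FEtGalois

end
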