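import Mathlib.FieldTheory.AbsoluteGaloisGroup
import Mathlib.FieldTheory.Galois.Profinite
import Mathlib.FieldTheory.PurelyInseparable.Basic
import Mathlib.FieldTheory.IsSepClosed

/-!
The absolute Galois group is compact; it is determined by its action on separable elements.
-/

set_option autoImplicit false
set_option linter.style.haveILetI false

universe u

open Topology

namespace Groth.Agent.FEtGalois

variable (K : Type u) [Field K]

local notation "Kb" => AlgebraicClosure K
local notation "Ks" => separableClosure K (AlgebraicClosure K)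

theorem algEquiv_eq_one_of_separable (σ : AlgebraicClosure K ≃ₐ[K] AlgebraicClosure K)
    (h : ∀ x ∈ separableClosure K (AlgebraicClosure K), σ x = x) : σ = 1 := by
  let σ' : Kb →ₐ[Ks] Kb := { σ.toAlgHom with commutes' := fun x => h x x.2 }
  have h2 : σ' = AlgHom.id Ks Kb := Subsingleton.elim _ _
  exact AlgEquiv.ext fun x => AlgHom.congr_fun h2 x

theorem compactSpace_gal : CompactSpace (AlgebraicClosure K ≃ₐ[K] AlgebraicClosure K) := by
  haveI : IsGalois K Ks := inferInstance
  let r : Gal(Kb/K) →* Gal(Ks/K) := AlgEquiv.restrictNormalHom Ks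
  have hr : ∀ (σ : Gal(Kb/K)) (x : Ks), ((r σ) x : Kb) = σ x := fun σ x =>
    AlgEquiv.restrictNormal_commutes σ Ks x
  have hbij : Function.Bijective r := by
    refine ⟨?_, AlgEquiv.restrictNormalHom_surjective Kb⟩
    rw [← MonoidHom.ker_eq_bot_iff, eq_bot_iff]
    intro σ hσ
    refine algEquiv_eq_one_of_separable K σ fun x hx => ?_
    rw [← hr σ ⟨x, hx⟩, MonoidHom.mem_ker.1 hσ]
    rfl
  let e := MulEquiv.ofBijective r hbij
  have hinv : Continuous e.symm := by
    apply continuous_of_continuousAt_one
    rw [continuousAt_def, map_one]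
    intro A hA
    obtain ⟨E, hE, hEA⟩ := (krullTopology_mem_nhds_one_iff K Kb A).1 hA
    let Es : IntermediateField K Ks := E.comap (IntermediateField.val Ks)
    haveI : FiniteDimensional K Es := by
      let ι : Es →ₐ[K] E :=
        { toFun := fun x => ⟨_, x.2⟩
          map_one' := rfl
          map_mul' := fun _ _ => rfl
          map_zero' := rfl
          map_add' := fun _ _ => rfl
          commutes' := fun _ => rfl }
      exact Module.Finite.of_injective ι.toLinearMap ι.injective
    refine Filter.mem_of_superset ((IntermediateField.fixingSubgroup_isOpen Es).mem_nhds (one_mem _)) ?_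
    intro τ hτ
    apply hEA
    obtain ⟨σ, rfl⟩ := hbij.2 τ
    change (e.symm (e σ)) ∈ E.fixingSubgroup
    rw [MulEquiv.symm_apply_apply, IntermediateField.mem_fixingSubgroup_iff]
    intro x hx
    haveI : IsPurelyInseparable Ks Kb := separableClosure.isPurelyInseparable K Kb
    obtain ⟨q, _⟩ := ExpChar.exists Kb
    haveI : ExpChar Ks q := (algebraMap Ks Kb).expChar (algebraMap Ks Kb).injective q
    obtain ⟨n, y, hy⟩ := IsPurelyInseparable.pow_mem Ks q x
    have hyE : y ∈ Es := by
      change (y : Kb) ∈ E
      rw [show (y : Kb) = x ^ q ^ n from hy]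
      exact pow_mem hx _
    have h1 := congrArg Subtype.val ((IntermediateField.mem_fixingSubgroup_iff _ _).1 hτ y hyE)
    rw [hr, show (y : Kb) = x ^ q ^ n from hy, map_pow] at h1
    exact iterateFrobenius_inj Kb q n (by simpa [iterateFrobenius_def] using h1)
  haveI : CompactSpace Gal(Ks/K) := inferInstance
  exact ⟨by rw [← e.symm.surjective.range_eq]; exact isCompact_range hinv⟩

instance : CompactSpace (Field.absoluteGaloisGroup K) := compactSpace_gal K

end Groth.Agent.FEtGalois
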