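import Mathlib.RingTheory.TotallySplit
import Mathlib.RingTheory.Etale.Field
import Mathlib.RingTheory.Etale.Descent
import Mathlib.RingTheory.RingHom.Etale
import Mathlib.RingTheory.Flat.EquationalCriterion
import Mathlib.RingTheory.Flat.Localization
import Mathlib.RingTheory.LocalRing.Module
import Mathlib.LinearAlgebra.FreeModule.PID
import Mathlib.LinearAlgebra.Matrix.ToLin
import Mathlib.FieldTheory.IsAlgClosed.AlgebraicClosure
import Mathlib.RingTheory.Finiteness.ModuleFinitePresentation
import Groth.Agent.TraceForm.Basic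

/-!
Equalisers of maps of finite etale algebras are finite etale and commute with any base change.
-/

set_option autoImplicit false

universe u

set_option linter.style.haveILetI false

open TensorProduct

namespace Groth.Agent.FEtGalois

/-- The integral matrix of `x ↦ x ∘ φ - x ∘ ψ`. -/
def dmat {m n : ℕ} (φ ψ : Fin n → Fin m) : Matrix (Fin n) (Fin m) ℤ :=
  Matrix.of fun i j => (if φ i = j then 1 else 0) - (if ψ i = j then 1 else 0)

theorem toLin'_dmat {m n : ℕ} (φ ψ : Fin n → Fin m) (R : Type u) [CommRing R] (x : Fin m → R) :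
    Matrix.toLin' ((dmat φ ψ).map (Int.castRingHom R)) x = fun i => x (φ i) - x (ψ i) := by
  funext i
  simp [dmat, Matrix.toLin'_apply, Matrix.mulVec, dotProduct, sub_mul, Finset.sum_sub_distrib,
    apply_ite (Int.cast : ℤ → R)]

theorem exists_quasiInverse_int {m n : ℕ} (φ ψ : Fin n → Fin m) :
    ∃ h : Matrix (Fin m) (Fin n) ℤ, dmat φ ψ * h * dmat φ ψ = dmat φ ψ := by
  let d := Matrix.toLin' (dmat φ ψ)
  have hd : ∀ x i, d x i = x (φ i) - x (ψ i) := fun x i => by
    have h := congrFun (toLin'_dmat φ ψ ℤ x) i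
    have h0 : (dmat φ ψ).map (Int.castRingHom ℤ) = dmat φ ψ := by ext; simp
    rw [h0] at h
    exact h
  haveI : Module.IsTorsionFree ℤ ((Fin n → ℤ) ⧸ LinearMap.range d) := by
    refine Module.IsTorsionFree.of_smul_eq_zero fun k y hky => ?_
    obtain ⟨c, rfl⟩ := Submodule.Quotient.mk_surjective _ y
    rw [← Submodule.Quotient.mk_smul, Submodule.Quotient.mk_eq_zero] at hky
    by_cases hk : k = 0
    · exact Or.inl hk
    right
    obtain ⟨x, hx⟩ := hky
    rw [Submodule.Quotient.mk_eq_zero]
    refine ⟨fun j => x j / k, ?_⟩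
    funext i
    have h1 := congrFun hx i
    rw [hd, Pi.smul_apply, smul_eq_mul] at h1
    rw [hd, show x (φ i) = x (ψ i) + k * c i by omega, Int.add_mul_ediv_left _ _ hk]
    ring
  haveI := Module.free_of_finite_type_torsion_free' (R := ℤ) (M := (Fin n → ℤ) ⧸ LinearMap.range d)
  obtain ⟨s, hs⟩ := Module.projective_lifting_property (LinearMap.range d).mkQ LinearMap.id
    (Submodule.mkQ_surjective _)
  haveI : Module.Free ℤ (LinearMap.range d) :=
    Module.Free.of_basis (Submodule.basisOfPid (Pi.basisFun ℤ (Fin n)) (LinearMap.range d)).2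
  obtain ⟨sec, hsec⟩ := Module.projective_lifting_property d.rangeRestrict LinearMap.id
    d.surjective_rangeRestrict
  let p : (Fin n → ℤ) →ₗ[ℤ] LinearMap.range d :=
    LinearMap.codRestrict _ (LinearMap.id - s ∘ₗ (LinearMap.range d).mkQ) fun x => by
      rw [← Submodule.Quotient.mk_eq_zero, ← Submodule.mkQ_apply]
      have h := LinearMap.congr_fun hs ((LinearMap.range d).mkQ x)
      simp only [LinearMap.comp_apply, LinearMap.id_apply] at h
      rw [LinearMap.sub_apply, map_sub, LinearMap.comp_apply, LinearMap.id_apply, h, sub_self]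
  refine ⟨LinearMap.toMatrix' (sec ∘ₗ p), Matrix.toLin'.injective ?_⟩
  rw [Matrix.toLin'_mul, Matrix.toLin'_mul, Matrix.toLin'_toMatrix']
  refine LinearMap.ext fun x => ?_
  have h1 : d (sec (p (d x))) = (p (d x) : Fin n → ℤ) :=
    congrArg Subtype.val (LinearMap.congr_fun hsec (p (d x)))
  have h2 : (p (d x) : Fin n → ℤ) = d x := by
    have : (LinearMap.range d).mkQ (d x) = 0 := (Submodule.Quotient.mk_eq_zero _).2 ⟨x, rfl⟩
    simp [p, this]
  exact h1.trans h2

/-- Algebra maps out of a finite power of `R` into `R` are projections when `R` is local. -/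
theorem algHom_pi_eq_eval {R : Type u} [CommRing R] [IsLocalRing R] {ι : Type*} [Fintype ι]
    (χ : (ι → R) →ₐ[R] R) : ∃ j, ∀ x, χ x = x j := by
  classical
  have h1 : ∑ j, χ (Pi.single j (1 : R)) = 1 := by
    rw [← map_sum]
    convert map_one χ
    funext i
    simp [Finset.sum_apply, Pi.single_apply]
  obtain ⟨j, hj⟩ : ∃ j, IsUnit (χ (Pi.single j (1 : R))) := by
    by_contra hc
    simp only [not_exists] at hc
    exact (IsLocalRing.mem_maximalIdeal _).1
      (h1 ▸ Ideal.sum_mem (IsLocalRing.maximalIdeal R) fun j _ => (IsLocalRing.mem_maximalIdeal _).2 (hc j))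
      isUnit_one
  have h2 : χ (Pi.single j (1 : R)) = 1 := by
    refine hj.mul_left_cancel ?_
    rw [mul_one, ← map_mul]
    congr 1
    rw [← Pi.single_mul, one_mul]
  refine ⟨j, fun x => ?_⟩
  calc χ x = χ x * χ (Pi.single j 1) := by rw [h2, mul_one]
    _ = χ (x * Pi.single j 1) := by rw [map_mul]
    _ = χ (x j • Pi.single j 1) := by
        congr 1; funext i; by_cases h : i = j
        · subst h; simp
        · simp [h]
    _ = x j := by rw [map_smul, h2, smul_eq_mul, mul_one]

theorem exists_quasiInverse_split {R : Type u} [CommRing R] [IsLocalRing R] {m n : ℕ}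
    (F G : (Fin m → R) →ₐ[R] Fin n → R) :
    ∃ H : (Fin n → R) →ₗ[R] Fin m → R,
      ∀ x, (F (H (F x - G x)) - G (H (F x - G x))) = F x - G x := by
  choose φ hφ using fun i => algHom_pi_eq_eval ((Pi.evalAlgHom R (fun _ : Fin n => R) i).comp F)
  choose ψ hψ using fun i => algHom_pi_eq_eval ((Pi.evalAlgHom R (fun _ : Fin n => R) i).comp G)
  obtain ⟨h, hh⟩ := exists_quasiInverse_int φ ψ
  have hd : ∀ x, F x - G x = Matrix.toLin' ((dmat φ ψ).map (Int.castRingHom R)) x := by
    intro x
    rw [toLin'_dmat]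
    funext i
    rw [← hφ i x, ← hψ i x]
    rfl
  refine ⟨Matrix.toLin' (h.map (Int.castRingHom R)), fun x => ?_⟩
  rw [hd, hd, ← LinearMap.comp_apply, ← LinearMap.comp_apply, ← Matrix.toLin'_mul, ← Matrix.toLin'_mul,
    ← Matrix.map_mul, ← Matrix.map_mul, hh]

variable {A B C : Type u} [CommRing A] [CommRing B] [CommRing C] [Algebra A B] [Algebra A C]
variable (f g : C →ₐ[A] B)

/-- The difference of two algebra maps. -/
abbrev diff : C →ₗ[A] B := f.toLinearMap - g.toLinearMap

theorem diff_baseChange_apply (R : Type u) [CommRing R] [Algebra A R] (x : R ⊗[A] C) :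
    (diff f g).baseChange R x =
      Algebra.TensorProduct.map (AlgHom.id R R) f x - Algebra.TensorProduct.map (AlgHom.id R R) g x := by
  induction x using TensorProduct.induction_on with
  | zero => simp
  | tmul r c => simp [TensorProduct.tmul_sub]
  | add a b ha hb => rw [map_add, ha, hb, map_add, map_add]; abel

theorem flat_quot_of_split (R : Type u) [CommRing R] [IsLocalRing R] [Algebra A R]
    [Algebra.IsFiniteSplit R (R ⊗[A] B)] [Algebra.IsFiniteSplit R (R ⊗[A] C)] :
    Module.Flat R (R ⊗[A] (B ⧸ LinearMap.range (diff f g))) := by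
  obtain ⟨m, ⟨eC⟩⟩ := Algebra.IsFiniteSplit.nonempty_algEquiv_fun R (R ⊗[A] C)
  obtain ⟨n, ⟨eB⟩⟩ := Algebra.IsFiniteSplit.nonempty_algEquiv_fun R (R ⊗[A] B)
  let f' := Algebra.TensorProduct.map (AlgHom.id R R) f
  let g' := Algebra.TensorProduct.map (AlgHom.id R R) g
  obtain ⟨H₀, hH₀⟩ := exists_quasiInverse_split
    ((eB.toAlgHom.comp f').comp eC.symm.toAlgHom) ((eB.toAlgHom.comp g').comp eC.symm.toAlgHom)
  let D := (diff f g).baseChange R
  let H : (R ⊗[A] B) →ₗ[R] R ⊗[A] C := eC.symm.toLinearMap ∘ₗ H₀ ∘ₗ eB.toLinearMap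
  have hDH : ∀ x, D (H (D x)) = D x := by
    intro x
    apply eB.injective
    have := hH₀ (eC x)
    simp only [AlgHom.comp_apply, AlgEquiv.coe_toAlgHom, AlgEquiv.symm_apply_apply, ← map_sub] at this
    simp only [D, H, diff_baseChange_apply, LinearMap.comp_apply, AlgEquiv.toLinearMap_apply]
    exact this
  have hex : Function.Exact D ((LinearMap.range (diff f g)).mkQ.baseChange R) :=
    lTensor_exact R (LinearMap.exact_iff.2 (Submodule.ker_mkQ _)) (Submodule.mkQ_surjective _)
  have hsurj : Function.Surjective ((LinearMap.range (diff f g)).mkQ.baseChange R) :=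
    LinearMap.lTensor_surjective R (Submodule.mkQ_surjective _)
  let e := hex.linearEquivOfSurjective hsurj
  let i : (R ⊗[A] (B ⧸ LinearMap.range (diff f g))) →ₗ[R] R ⊗[A] B :=
    Submodule.liftQ (LinearMap.range D) (LinearMap.id - D ∘ₗ H) (by
      rintro _ ⟨x, rfl⟩
      simp [hDH]) ∘ₗ e.symm.toLinearMap
  haveI : Module.Free R (R ⊗[A] B) := inferInstance
  haveI : Module.Projective R (R ⊗[A] (B ⧸ LinearMap.range (diff f g))) := by
    refine Module.Projective.of_split i ((LinearMap.range (diff f g)).mkQ.baseChange R) ?_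
    refine LinearMap.ext fun y => ?_
    obtain ⟨x, rfl⟩ := hsurj y
    have hx : e.symm ((LinearMap.range (diff f g)).mkQ.baseChange R x) = Submodule.Quotient.mk x :=
      e.injective (by rw [LinearEquiv.apply_symm_apply]; rfl)
    simp only [i, LinearMap.comp_apply, LinearEquiv.coe_coe, hx, Submodule.liftQ_apply, LinearMap.id_apply,
      LinearMap.sub_apply, map_sub, hex.apply_apply_eq_zero, sub_zero]
  infer_instance

theorem flat_quot_of_split_all (T : Type u) [CommRing T] [Algebra A T]
    [Algebra.IsFiniteSplit T (T ⊗[A] B)] [Algebra.IsFiniteSplit T (T ⊗[A] C)] :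
    Module.Flat T (T ⊗[A] (B ⧸ LinearMap.range (diff f g))) := by
  refine Module.flat_of_localized_maximal _ fun P _ => ?_
  let R := Localization.AtPrime P
  haveI : Algebra.IsFiniteSplit R (R ⊗[A] B) :=
    .of_algEquiv (Algebra.TensorProduct.cancelBaseChange A T R R B)
  haveI : Algebra.IsFiniteSplit R (R ⊗[A] C) :=
    .of_algEquiv (Algebra.TensorProduct.cancelBaseChange A T R R C)
  haveI := flat_quot_of_split f g R
  let Q := B ⧸ LinearMap.range (diff f g)
  haveI : Module.Flat R (R ⊗[T] (T ⊗[A] Q)) :=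
    Module.Flat.of_linearEquiv (TensorProduct.AlgebraTensorModule.cancelBaseChange A T R R Q)
  haveI : Module.Flat R (LocalizedModule P.primeCompl (T ⊗[A] Q)) :=
    Module.Flat.of_linearEquiv (LocalizedModule.equivTensorProduct P.primeCompl (T ⊗[A] Q))
  exact Module.Flat.trans T R _

variable [Algebra.Etale A B] [Module.Finite A B] [Algebra.Etale A C] [Module.Finite A C]

theorem flat_quot : Module.Flat A (B ⧸ LinearMap.range (diff f g)) := by
  refine Module.flat_of_localized_maximal _ fun p _ => ?_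
  let Ap := Localization.AtPrime p
  let Q := B ⧸ LinearMap.range (diff f g)
  haveI : Module.Free Ap (Ap ⊗[A] C) := Module.free_of_flat_of_isLocalRing
  haveI : Module.Free Ap (Ap ⊗[A] B) := Module.free_of_flat_of_isLocalRing
  obtain ⟨T₁, _, _, _, _, _, hT₁⟩ := Algebra.IsFiniteSplit.exists_tensorProduct_of_etale
    (R := Ap) (S := Ap ⊗[A] C) (n := Module.finrank Ap (Ap ⊗[A] C))
    (by rw [Module.rankAtStalk_eq_finrank_of_free]; try rfl)
  letI : Algebra A T₁ := Algebra.compHom T₁ (algebraMap A Ap)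
  haveI : IsScalarTower A Ap T₁ := .of_algebraMap_eq' rfl
  haveI : Algebra.IsFiniteSplit T₁ (T₁ ⊗[A] C) :=
    .of_algEquiv (Algebra.TensorProduct.cancelBaseChange A Ap T₁ T₁ C)
  haveI : Nontrivial T₁ :=
    haveI : Nontrivial (T₁ ⊗[Ap] Ap) := Module.FaithfullyFlat.lTensor_nontrivial Ap T₁ Ap
    (TensorProduct.rid Ap T₁).toEquiv.nontrivial_congr.1 inferInstance
  haveI : Module.Free T₁ (T₁ ⊗[A] B) :=
    Module.Free.of_equiv (TensorProduct.AlgebraTensorModule.cancelBaseChange A Ap T₁ T₁ B)
  obtain ⟨T₂, _, _, _, _, _, hT₂⟩ := Algebra.IsFiniteSplit.exists_tensorProduct_of_etale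
    (R := T₁) (S := T₁ ⊗[A] B) (n := Module.finrank T₁ (T₁ ⊗[A] B))
    (by rw [Module.rankAtStalk_eq_finrank_of_free]; try rfl)
  letI : Algebra A T₂ := Algebra.compHom T₂ (algebraMap A T₁)
  haveI : IsScalarTower A T₁ T₂ := .of_algebraMap_eq' rfl
  letI : Algebra Ap T₂ := Algebra.compHom T₂ (algebraMap Ap T₁)
  haveI : IsScalarTower Ap T₁ T₂ := .of_algebraMap_eq' rfl
  haveI : IsScalarTower A Ap T₂ := .of_algebraMap_eq' (by
    change (algebraMap T₁ T₂).comp (algebraMap A T₁) = ((algebraMap T₁ T₂).comp (algebraMap Ap T₁)).comp _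
    rw [RingHom.comp_assoc, ← IsScalarTower.algebraMap_eq A Ap T₁])
  haveI : Algebra.IsFiniteSplit T₂ (T₂ ⊗[A] B) :=
    .of_algEquiv (Algebra.TensorProduct.cancelBaseChange A T₁ T₂ T₂ B)
  haveI : Algebra.IsFiniteSplit T₂ (T₂ ⊗[A] C) :=
    .of_algEquiv (Algebra.TensorProduct.cancelBaseChange A T₁ T₂ T₂ C)
  haveI : Module.FaithfullyFlat Ap T₂ := .trans Ap T₁ T₂
  haveI := flat_quot_of_split_all f g T₂
  haveI : Module.Flat T₂ (T₂ ⊗[Ap] (Ap ⊗[A] Q)) :=
    Module.Flat.of_linearEquiv (TensorProduct.AlgebraTensorModule.cancelBaseChange A Ap T₂ T₂ Q)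
  haveI : Module.Flat Ap (Ap ⊗[A] Q) := Module.Flat.of_flat_tensorProduct Ap _ T₂
  haveI : Module.Flat Ap (LocalizedModule p.primeCompl Q) :=
    Module.Flat.of_linearEquiv (LocalizedModule.equivTensorProduct p.primeCompl Q)
  exact Module.Flat.trans A Ap _

theorem exists_quasiInverse : ∃ h : B →ₗ[A] C, ∀ x, diff f g (h (diff f g x)) = diff f g x := by
  haveI : Module.FinitePresentation A B := .of_finite_of_finitePresentation _ _
  haveI : Module.Projective A B := Module.Flat.projective_of_finitePresentation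
  haveI := flat_quot f g
  let d := diff f g
  haveI : Module.FinitePresentation A (B ⧸ LinearMap.range d) :=
    Module.finitePresentation_of_surjective _ (Submodule.mkQ_surjective _)
      (by rw [Submodule.ker_mkQ, LinearMap.range_eq_map]; exact Submodule.FG.map _ Module.Finite.fg_top)
  haveI : Module.Projective A (B ⧸ LinearMap.range d) := Module.Flat.projective_of_finitePresentation
  obtain ⟨s, hs⟩ := Module.projective_lifting_property (LinearMap.range d).mkQ LinearMap.id
    (Submodule.mkQ_surjective _)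
  let p : B →ₗ[A] LinearMap.range d :=
    LinearMap.codRestrict _ (LinearMap.id - s ∘ₗ (LinearMap.range d).mkQ) fun x => by
      rw [← Submodule.Quotient.mk_eq_zero, ← Submodule.mkQ_apply]
      have h := LinearMap.congr_fun hs ((LinearMap.range d).mkQ x)
      simp only [LinearMap.comp_apply, LinearMap.id_apply] at h
      rw [LinearMap.sub_apply, map_sub, LinearMap.comp_apply, LinearMap.id_apply, h, sub_self]
  have hp : p ∘ₗ (LinearMap.range d).subtype = LinearMap.id := by
    refine LinearMap.ext fun y => Subtype.ext ?_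
    have : (LinearMap.range d).mkQ (y : B) = 0 := (Submodule.Quotient.mk_eq_zero _).2 y.2
    simp [p, this]
  haveI : Module.Projective A (LinearMap.range d) := Module.Projective.of_split _ p hp
  obtain ⟨sec, hsec⟩ := Module.projective_lifting_property d.rangeRestrict LinearMap.id
    d.surjective_rangeRestrict
  refine ⟨sec ∘ₗ p, fun x => ?_⟩
  have h1 : d (sec (p (d x))) = (p (d x) : B) := congrArg Subtype.val (LinearMap.congr_fun hsec (p (d x)))
  exact h1.trans (congrArg Subtype.val (LinearMap.congr_fun hp ⟨d x, x, rfl⟩))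

/-- A retraction onto the equaliser which fixes the kernel of the difference after any base change. -/
theorem exists_retraction : ∃ r : C →ₗ[A] AlgHom.equalizer f g,
    (∀ x : AlgHom.equalizer f g, r (x : C) = x) ∧ ∃ h : B →ₗ[A] C, ∀ x, (r x : C) = x - h (diff f g x) := by
  obtain ⟨h, hh⟩ := exists_quasiInverse f g
  refine ⟨LinearMap.codRestrict (Subalgebra.toSubmodule (AlgHom.equalizer f g))
    (LinearMap.id - h ∘ₗ diff f g) fun x => ?_, fun x => ?_, h, fun x => rfl⟩
  · rw [Subalgebra.mem_toSubmodule, AlgHom.mem_equalizer, ← sub_eq_zero]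
    change diff f g (x - h (diff f g x)) = 0
    rw [map_sub, hh, sub_self]
  · refine Subtype.ext ?_
    change (x : C) - h (f x - g x) = x
    rw [(AlgHom.mem_equalizer f g x).1 x.2, sub_self, map_zero, sub_zero]

theorem injective_baseChange (T : Type u) [CommRing T] [Algebra A T] :
    Function.Injective ((AlgHom.equalizer f g).val.toLinearMap.baseChange T) := by
  obtain ⟨r, hr, -⟩ := exists_retraction f g
  refine Function.LeftInverse.injective (g := r.baseChange T) fun x => ?_
  induction x using TensorProduct.induction_on with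
  | zero => simp
  | tmul t e => simp [hr]
  | add a b ha hb => rw [map_add, map_add, ha, hb]

theorem mem_range_baseChange (T : Type u) [CommRing T] [Algebra A T] {x : T ⊗[A] C}
    (hx : Algebra.TensorProduct.map (AlgHom.id T T) f x = Algebra.TensorProduct.map (AlgHom.id T T) g x) :
    x ∈ LinearMap.range ((AlgHom.equalizer f g).val.toLinearMap.baseChange T) := by
  obtain ⟨r, hr, h, hh⟩ := exists_retraction f g
  refine ⟨r.baseChange T x, ?_⟩
  have key : ∀ y, (AlgHom.equalizer f g).val.toLinearMap.baseChange T (r.baseChange T y) =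
      y - h.baseChange T ((diff f g).baseChange T y) := by
    intro y
    induction y using TensorProduct.induction_on with
    | zero => simp
    | tmul t c => simp [hh, TensorProduct.tmul_sub]
    | add a b ha hb => simp only [map_add, ha, hb]; abel
  rw [key, diff_baseChange_apply, hx, sub_self, map_zero, sub_zero]

theorem finite_equalizer : Module.Finite A (AlgHom.equalizer f g) := by
  obtain ⟨r, hr, -⟩ := exists_retraction f g
  exact Module.Finite.of_surjective r fun x => ⟨x, hr x⟩

theorem formallyEtale_of_isReduced {K D : Type u} [Field K] [IsAlgClosed K] [CommRing D] [Algebra K D]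
    [Module.Finite K D] [IsReduced D] : Algebra.FormallyEtale K D := by
  haveI : IsArtinianRing D := isArtinian_of_tower K inferInstance
  letI (m : MaximalSpectrum D) : Field (D ⧸ m.asIdeal) := Ideal.Quotient.field m.asIdeal
  refine (Algebra.FormallyEtale.iff_exists_algEquiv_prod K D).2 ⟨MaximalSpectrum D, inferInstance,
    fun m => D ⧸ m.asIdeal, inferInstance, inferInstance, (IsArtinianRing.equivPi D).restrictScalars K,
    fun m => ?_⟩
  haveI : Algebra.IsAlgebraic K (D ⧸ m.asIdeal) := Algebra.IsAlgebraic.of_finite K _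
  infer_instance

theorem etale_equalizer : Algebra.Etale A (AlgHom.equalizer f g) := by
  haveI := finite_equalizer f g
  obtain ⟨r, hr, -⟩ := exists_retraction f g
  haveI : Module.FinitePresentation A C := .of_finite_of_finitePresentation _ _
  haveI : Module.Projective A C := Module.Flat.projective_of_finitePresentation
  haveI : Module.Projective A (AlgHom.equalizer f g) :=
    Module.Projective.of_split (AlgHom.equalizer f g).val.toLinearMap r (LinearMap.ext hr)
  haveI : Module.FinitePresentation A (AlgHom.equalizer f g) := Module.finitePresentation_of_projective _ _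
  haveI : Algebra.FormallyUnramified A (AlgHom.equalizer f g) := by
    refine TraceForm.formallyUnramified_of_fibres fun p _ => ?_
    let Ω := AlgebraicClosure p.ResidueField
    let E := AlgHom.equalizer f g
    haveI : Algebra.FormallyUnramified Ω (Ω ⊗[A] C) := inferInstance
    haveI : IsReduced (Ω ⊗[A] C) := Algebra.FormallyUnramified.isReduced_of_field Ω _
    haveI : IsReduced (Ω ⊗[A] E) :=
      isReduced_of_injective (Algebra.TensorProduct.map (AlgHom.id Ω Ω) E.val) (injective_baseChange f g Ω)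
    haveI : Algebra.FormallyEtale Ω (Ω ⊗[A] E) := formallyEtale_of_isReduced
    haveI : Algebra.FormallyUnramified Ω (Ω ⊗[p.ResidueField] (p.ResidueField ⊗[A] E)) :=
      .of_equiv (Algebra.TensorProduct.cancelBaseChange A p.ResidueField Ω Ω E).symm
    exact Algebra.FormallyUnramified.of_formallyUnramified_tensorProduct_of_faithfullyFlat Ω
  rw [← RingHom.etale_algebraMap, RingHom.Etale.iff_flat_and_formallyUnramified]
  refine ⟨?_, ?_, ?_⟩
  all_goals first
    | exact RingHom.flat_algebraMap_iff.2 inferInstance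
    | exact RingHom.formallyUnramified_algebraMap.2 inferInstance
    | exact RingHom.finitePresentation_algebraMap.2 inferInstance

theorem ev_bijective {Ω D : Type u} [Field Ω] [IsAlgClosed Ω] [CommRing D] [Algebra Ω D]
    [Algebra.Etale Ω D] : Function.Bijective (fun (x : D) (χ : D →ₐ[Ω] Ω) => χ x) := by
  obtain ⟨n, ⟨e⟩⟩ := Algebra.IsFiniteSplit.nonempty_algEquiv_fun Ω D
  let Φ : Fin n → (D →ₐ[Ω] Ω) := fun i => (Pi.evalAlgHom Ω (fun _ : Fin n => Ω) i).comp e.toAlgHom
  refine ⟨fun x y hxy => e.injective (funext fun i => congrFun hxy (Φ i)),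
    fun φ => ⟨e.symm fun i => φ (Φ i), funext fun χ => ?_⟩⟩
  obtain ⟨j, hj⟩ := algHom_pi_eq_eval (χ.comp e.symm.toAlgHom)
  have hχ : χ = Φ j := by
    refine AlgHom.ext fun x => ?_
    simpa [Φ] using hj (e x)
  have := hj fun i => φ (Φ i)
  simp only [AlgHom.comp_apply, AlgEquiv.coe_toAlgHom] at this
  change χ _ = φ χ
  rw [this, ← hχ]

/-- Two geometric points agreeing on the equaliser lie in the same class. -/
theorem mem_of_agree (Ω : Type u) [Field Ω] [IsAlgClosed Ω] [Algebra A Ω] (P : Set (C →ₐ[A] Ω))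
    (hP : ∀ τ : B →ₐ[A] Ω, τ.comp f ∈ P ↔ τ.comp g ∈ P) {s s' : C →ₐ[A] Ω} (hs : s ∈ P)
    (h : ∀ x ∈ AlgHom.equalizer f g, s x = s' x) : s' ∈ P := by
  classical
  let L {D : Type u} [CommRing D] [Algebra A D] (σ : D →ₐ[A] Ω) : Ω ⊗[A] D →ₐ[Ω] Ω :=
    Algebra.TensorProduct.lift (Algebra.ofId Ω Ω) σ fun _ _ => Commute.all _ _
  obtain ⟨e, he⟩ := (ev_bijective (Ω := Ω) (D := Ω ⊗[A] C)).2
    fun χ => if (χ.restrictScalars A).comp Algebra.TensorProduct.includeRight ∈ P then 1 else 0
  have he' : ∀ χ : Ω ⊗[A] C →ₐ[Ω] Ω,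
      χ e = if (χ.restrictScalars A).comp Algebra.TensorProduct.includeRight ∈ P then 1 else 0 :=
    fun χ => congrFun he χ
  have heq : Algebra.TensorProduct.map (AlgHom.id Ω Ω) f e = Algebra.TensorProduct.map (AlgHom.id Ω Ω) g e := by
    apply (ev_bijective (Ω := Ω) (D := Ω ⊗[A] B)).1
    funext χ
    have hc : ∀ u : C →ₐ[A] B, (((χ.comp (Algebra.TensorProduct.map (AlgHom.id Ω Ω) u)).restrictScalars A).comp
        Algebra.TensorProduct.includeRight) =
          ((χ.restrictScalars A).comp Algebra.TensorProduct.includeRight).comp u := fun u => by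
      ext c; simp
    change (χ.comp (Algebra.TensorProduct.map (AlgHom.id Ω Ω) f)) e =
      (χ.comp (Algebra.TensorProduct.map (AlgHom.id Ω Ω) g)) e
    rw [he', he', hc, hc]
    simp only [hP]
  obtain ⟨z, hz⟩ := mem_range_baseChange f g Ω heq
  have hL : ∀ σ : C →ₐ[A] Ω, L σ e = if σ ∈ P then 1 else 0 := by
    intro σ
    have hc : ((L σ).restrictScalars A).comp Algebra.TensorProduct.includeRight = σ := by
      ext c; simp [L]
    simp only [he', hc]
  have hss : ∀ z, L s ((AlgHom.equalizer f g).val.toLinearMap.baseChange Ω z) =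
      L s' ((AlgHom.equalizer f g).val.toLinearMap.baseChange Ω z) := by
    intro z
    induction z using TensorProduct.induction_on with
    | zero => simp
    | tmul t c => simp [L, h c c.2]
    | add a b ha hb => simp only [map_add, ha, hb]
  have := hss z
  rw [hz, hL, hL, if_pos hs] at this
  by_contra hc
  rw [if_neg hc] at this
  exact one_ne_zero this

/-- Geometric points of the equaliser extend. -/
theorem exists_extend (Ω : Type u) [Field Ω] [IsAlgClosed Ω] [Algebra A Ω]
    (χ : AlgHom.equalizer f g →ₐ[A] Ω) : ∃ s : C →ₐ[A] Ω, s.comp (AlgHom.equalizer f g).val = χ := by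
  let E := AlgHom.equalizer f g
  let ι := Algebra.TensorProduct.map (AlgHom.id Ω Ω) E.val
  let χ' : Ω ⊗[A] E →ₐ[Ω] Ω := Algebra.TensorProduct.lift (Algebra.ofId Ω Ω) χ fun _ _ => Commute.all _ _
  letI : Algebra (Ω ⊗[A] E) (Ω ⊗[A] C) := ι.toRingHom.toAlgebra
  haveI : IsScalarTower Ω (Ω ⊗[A] E) (Ω ⊗[A] C) := .of_algebraMap_eq fun x => (ι.commutes x).symm
  haveI : Module.Finite (Ω ⊗[A] E) (Ω ⊗[A] C) := Module.Finite.of_restrictScalars_finite Ω _ _
  haveI : Algebra.IsIntegral (Ω ⊗[A] E) (Ω ⊗[A] C) := Algebra.IsIntegral.of_finite _ _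
  haveI : (RingHom.ker χ').IsPrime := RingHom.ker_isPrime _
  haveI : Algebra.Etale Ω (Ω ⊗[A] C) := inferInstance
  obtain ⟨Q, -, hQ, hQχ⟩ := Ideal.exists_ideal_over_prime_of_isIntegral (RingHom.ker χ') (⊥ : Ideal (Ω ⊗[A] C))
    (by
      intro x hx
      rw [Ideal.mem_comap, Ideal.mem_bot, RingHom.algebraMap_toAlgebra] at hx
      rw [injective_baseChange f g Ω (hx.trans (map_zero _).symm)]
      exact Ideal.zero_mem _)
  let σ : Ω ⊗[A] C →ₐ[Ω] Ω := (Algebra.IsFiniteSplit.algHomEquivPrimeSpectrum Ω (Ω ⊗[A] C)).symm ⟨Q, hQ⟩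
  have hσ : RingHom.ker σ = Q := congrArg PrimeSpectrum.asIdeal
    ((Algebra.IsFiniteSplit.algHomEquivPrimeSpectrum Ω (Ω ⊗[A] C)).apply_symm_apply ⟨Q, hQ⟩)
  refine ⟨(σ.restrictScalars A).comp Algebra.TensorProduct.includeRight, AlgHom.ext fun x => ?_⟩
  have h1 : (1 : Ω) ⊗ₜ[A] x - algebraMap Ω (Ω ⊗[A] E) (χ x) ∈ RingHom.ker χ' := by
    rw [RingHom.mem_ker, map_sub, AlgHom.commutes]
    simp [χ']
  rw [← hQχ, Ideal.mem_comap, ← hσ, RingHom.mem_ker, RingHom.algebraMap_toAlgebra, AlgHom.toRingHom_eq_coe,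
    RingHom.coe_coe, map_sub, map_sub, AlgHom.commutes, AlgHom.commutes, sub_eq_zero] at h1
  simpa [ι, E] using h1

end Groth.Agent.FEtGalois
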