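import Groth.Agent.FEtGalois.Points
import Groth.Prelude.Def_FEt
import Mathlib.AlgebraicGeometry.Limits
import Mathlib.AlgebraicGeometry.Morphisms.Separated
import Mathlib.CategoryTheory.Limits.MorphismProperty
import Mathlib.CategoryTheory.Limits.Types.Coproducts
import Mathlib.CategoryTheory.Limits.Constructions.LimitsOfProductsAndEqualizers
import Mathlib.CategoryTheory.Limits.Constructions.FiniteProductsOfBinaryProducts

/-!
Finite limits and colimits of finite etale covers; the fibre functors are exact.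
-/

set_option autoImplicit false
set_option backward.isDefEq.respectTransparency false
set_option linter.style.haveILetI false

universe u

open CategoryTheory CategoryTheory.Limits AlgebraicGeometry

noncomputable section

namespace Groth.Agent.FEtGalois

variable {X : Scheme.{u}}

instance : FEt.prop.{u}.HasOfPostcompProperty FEt.prop.{u} where
  of_postcomp {A B C} u v hv huv := by
    haveI : IsFinite v := hv.1
    haveI : Etale v := hv.2
    haveI : IsFinite (u ≫ v) := huv.1
    haveI : Etale (u ≫ v) := huv.2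
    exact ⟨IsFinite.of_comp u v, Etale.of_comp u v⟩

instance (Y : FEt.Cat X) : IsFinite Y.hom := Y.prop.1
instance (Y : FEt.Cat X) : Etale Y.hom := Y.prop.2

theorem prop_left {Y Z : FEt.Cat X} (φ : Y ⟶ Z) : FEt.prop φ.left := by
  refine MorphismProperty.of_postcomp (W' := FEt.prop) FEt.prop φ.left Z.hom Z.prop ?_
  rw [MorphismProperty.Over.w φ]
  exact Y.prop

instance {Y Z : FEt.Cat X} (φ : Y ⟶ Z) : IsFinite φ.left := (prop_left φ).1
instance {Y Z : FEt.Cat X} (φ : Y ⟶ Z) : Etale φ.left := (prop_left φ).2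

instance hasFiniteLimits : HasFiniteLimits (FEt.Cat X) := MorphismProperty.Over.hasFiniteLimits _ _

theorem hom_ext' {Y Z : FEt.Cat X} {φ ψ : Y ⟶ Z} (h : φ.left = ψ.left) : φ = ψ := by
  ext; exact h

section coproducts

/-- The empty cover. -/
def emptyObj : FEt.Cat X :=
  MorphismProperty.Over.mk _ (Scheme.emptyTo X) ⟨inferInstance, inferInstance⟩

/-- It is initial. -/
def isInitialEmptyObj : IsInitial (emptyObj (X := X)) :=
  IsInitial.ofUniqueHom (fun Y => MorphismProperty.Over.homMk (Scheme.emptyTo _) (Scheme.empty_ext _ _))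
    fun _ _ => hom_ext' (Scheme.empty_ext _ _)

instance : HasInitial (FEt.Cat X) := isInitialEmptyObj.hasInitial

variable (Y Z : FEt.Cat X)

/-- The disjoint union of two covers. -/
def sumObj : FEt.Cat X :=
  MorphismProperty.Over.mk _ (coprod.desc Y.hom Z.hom)
    ⟨inferInstance, by
      refine IsZariskiLocalAtSource.of_openCover (P := @Etale) (coprodOpenCover.{u, u} Y.left Z.left) fun i => ?_
      rcases i with i | i
      · change Etale (coprod.inl ≫ coprod.desc Y.hom Z.hom); rw [coprod.inl_desc]; exact Y.prop.2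
      · change Etale (coprod.inr ≫ coprod.desc Y.hom Z.hom); rw [coprod.inr_desc]; exact Z.prop.2⟩

/-- The cofan of the disjoint union. -/
def sumCofan : BinaryCofan Y Z :=
  BinaryCofan.mk (P := sumObj Y Z) (MorphismProperty.Over.homMk coprod.inl (coprod.inl_desc _ _))
    (MorphismProperty.Over.homMk coprod.inr (coprod.inr_desc _ _))

/-- It is a coproduct. -/
def isColimitSumCofan : IsColimit (sumCofan Y Z) :=
  BinaryCofan.IsColimit.mk _
    (fun {T} a b => MorphismProperty.Over.homMk (coprod.desc a.left b.left) (by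
      refine coprod.hom_ext ?_ ?_ <;> simp [sumObj, sumCofan]
      · exact (coprod.inl_desc _ _).symm
      · exact (coprod.inr_desc _ _).symm))
    (fun a b => hom_ext' (coprod.inl_desc _ _)) (fun a b => hom_ext' (coprod.inr_desc _ _))
    fun a b m hl hr => hom_ext' (coprod.hom_ext
      ((congrArg (fun φ => φ.left) hl).trans (coprod.inl_desc a.left b.left).symm)
      ((congrArg (fun φ => φ.left) hr).trans (coprod.inr_desc a.left b.left).symm))

instance : HasBinaryCoproduct Y Z := HasColimit.mk ⟨_, isColimitSumCofan Y Z⟩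

instance : HasBinaryCoproducts (FEt.Cat X) := hasBinaryCoproducts_of_hasColimit_pair _

instance : HasFiniteCoproducts (FEt.Cat X) := hasFiniteCoproducts_of_has_binary_and_initial

end coproducts

section coequalizers

variable {Y Z : FEt.Cat X} (φ ψ : Y ⟶ Z)

/-- The coequaliser cover. -/
def coeqObj : FEt.Cat X :=
  MorphismProperty.Over.mk _ (toBase (MorphismProperty.Over.w φ) (MorphismProperty.Over.w ψ))
    ⟨isFinite_toBase _ _, etale_toBase _ _⟩

/-- The coequaliser cofork. -/
def coeqCofork : Cofork φ ψ :=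
  Cofork.ofπ (P := coeqObj φ ψ)
    (MorphismProperty.Over.homMk (proj (MorphismProperty.Over.w φ) (MorphismProperty.Over.w ψ))
      (proj_toBase _ _))
    (hom_ext' (coequalises (MorphismProperty.Over.w φ) (MorphismProperty.Over.w ψ)))

/-- It is a colimit. -/
def isColimitCoeqCofork : IsColimit (coeqCofork φ ψ) :=
  Cofork.IsColimit.mk _
    (fun s => MorphismProperty.Over.homMk
      (desc (MorphismProperty.Over.w φ) (MorphismProperty.Over.w ψ) (MorphismProperty.Over.w s.π)
        (congrArg (fun k => k.left) s.condition))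
      (desc_toBase _ _ _ _))
    (fun s => hom_ext' (proj_desc _ _ _ _))
    fun s m hm => hom_ext' (desc_unique _ _ _ _ m.left (MorphismProperty.Over.w m)
      (congrArg (fun k => k.left) hm))

instance : HasColimit (parallelPair φ ψ) := HasColimit.mk ⟨_, isColimitCoeqCofork φ ψ⟩

instance : HasCoequalizers (FEt.Cat X) := hasCoequalizers_of_hasColimit_parallelPair _

instance hasFiniteColimits : HasFiniteColimits (FEt.Cat X) :=
  hasFiniteColimits_of_hasCoequalizers_and_finite_coproducts

end coequalizers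

section fiber

variable {Ω : Type u} [Field Ω] (ξ : Spec (CommRingCat.of Ω) ⟶ X)

/-- The fibre functor is representable on `Over X`. -/
def fiberIso : MorphismProperty.Over.forget FEt.prop ⊤ X ⋙ coyoneda.obj (Opposite.op (Over.mk ξ)) ≅ FEt.fiber ξ :=
  NatIso.ofComponents
    (fun Y => Equiv.toIso
      { toFun := fun m => ⟨m.left, Over.w m⟩
        invFun := fun s => Over.homMk s.1 s.2
        left_inv := fun _ => rfl
        right_inv := fun _ => rfl })
    fun _ => rfl

instance : PreservesFiniteLimits (FEt.fiber ξ) :=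
  haveI : PreservesFiniteLimits (MorphismProperty.Over.forget FEt.prop ⊤ X) := inferInstance
  haveI := comp_preservesFiniteLimits (MorphismProperty.Over.forget FEt.prop ⊤ X)
    (coyoneda.obj (Opposite.op (Over.mk ξ)))
  preservesFiniteLimits_of_natIso (fiberIso ξ)

theorem fiberObj_emptyObj_isEmpty : IsEmpty ((FEt.fiber ξ).obj emptyObj) :=
  ⟨fun s => IsEmpty.false (α := (∅ : Scheme.{u})) (s.1 default)⟩

instance preservesInitial : PreservesColimit (Functor.empty.{0} (FEt.Cat X)) (FEt.fiber ξ) :=
  preservesColimit_of_preserves_colimit_cocone isInitialEmptyObj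
    ((isColimitMapCoconeEmptyCoconeEquiv (FEt.fiber ξ) emptyObj).symm
      (((Types.initial_iff_empty _).2 (fiberObj_emptyObj_isEmpty ξ)).some))

theorem fiber_sum_inj_disjoint {Y Z : FEt.Cat X} :
    Function.Injective ((FEt.fiber ξ).map (sumCofan Y Z).inl) ∧
      Function.Injective ((FEt.fiber ξ).map (sumCofan Y Z).inr) ∧
      IsCompl (Set.range ((FEt.fiber ξ).map (sumCofan Y Z).inl)) (Set.range ((FEt.fiber ξ).map (sumCofan Y Z).inr)) := by
  refine ⟨fun s t h => Subtype.ext ((cancel_mono (coprod.inl : Y.left ⟶ _)).1 (congrArg Subtype.val h)),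
    fun s t h => Subtype.ext ((cancel_mono (coprod.inr : Z.left ⟶ _)).1 (congrArg Subtype.val h)),
    ⟨?_, ?_⟩⟩
  · rw [Set.disjoint_iff_forall_ne]
    rintro _ ⟨s, rfl⟩ _ ⟨t, rfl⟩ h
    have h1 := congrArg (fun k => k.1 default) h
    have h2 := (isCompl_range_inl_inr Y.left Z.left).disjoint
    exact Set.disjoint_iff_forall_ne.1 h2 ⟨s.1 default, rfl⟩ ⟨t.1 default, rfl⟩ h1
  · rw [codisjoint_iff]
    refine eq_top_iff.2 fun w _ => ?_
    have hw : (w.1 default) ∈ Set.range (coprod.inl : Y.left ⟶ _) ∪ Set.range (coprod.inr : Z.left ⟶ _) := by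
      exact (isCompl_range_inl_inr Y.left Z.left).codisjoint.top_le (Set.mem_univ _)
    rcases hw with hw | hw
    · refine Or.inl ⟨⟨IsOpenImmersion.lift coprod.inl w.1 ?_, ?_⟩, Subtype.ext (IsOpenImmersion.lift_fac _ _ _)⟩
      · rintro _ ⟨p, rfl⟩; rwa [Subsingleton.elim p default]
      · change IsOpenImmersion.lift (coprod.inl : Y.left ⟶ Y.left ⨿ Z.left) w.1 _ ≫ Y.hom = ξ
        have h := IsOpenImmersion.lift_fac (coprod.inl : Y.left ⟶ Y.left ⨿ Z.left) w.1
          (by rintro _ ⟨p, rfl⟩; rwa [Subsingleton.elim p default])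
        refine (congrArg (_ ≫ ·) (coprod.inl_desc Y.hom Z.hom).symm).trans ?_
        refine ((Category.assoc _ _ _).symm.trans (congrArg (· ≫ coprod.desc Y.hom Z.hom) h)).trans ?_
        exact w.2
    · refine Or.inr ⟨⟨IsOpenImmersion.lift coprod.inr w.1 ?_, ?_⟩, Subtype.ext (IsOpenImmersion.lift_fac _ _ _)⟩
      · rintro _ ⟨p, rfl⟩; rwa [Subsingleton.elim p default]
      · change IsOpenImmersion.lift (coprod.inr : Z.left ⟶ Y.left ⨿ Z.left) w.1 _ ≫ Z.hom = ξ
        have h := IsOpenImmersion.lift_fac (coprod.inr : Z.left ⟶ Y.left ⨿ Z.left) w.1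
          (by rintro _ ⟨p, rfl⟩; rwa [Subsingleton.elim p default])
        refine (congrArg (_ ≫ ·) (coprod.inr_desc Y.hom Z.hom).symm).trans ?_
        refine ((Category.assoc _ _ _).symm.trans (congrArg (· ≫ coprod.desc Y.hom Z.hom) h)).trans ?_
        exact w.2

/-- The image of the disjoint union is a coproduct of sets. -/
theorem preservesPair (Y Z : FEt.Cat X) : PreservesColimit (pair Y Z) (FEt.fiber ξ) :=
  preservesColimit_of_preserves_colimit_cocone (isColimitSumCofan Y Z)
    ((isColimitMapCoconeBinaryCofanEquiv _ _ _).symm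
      ((Types.binaryCofan_isColimit_iff _).2 (fiber_sum_inj_disjoint ξ)).some)

instance : PreservesFiniteCoproducts (FEt.fiber ξ) := by
  haveI : ∀ D : Discrete PEmpty.{1} ⥤ FEt.Cat X, PreservesColimit D (FEt.fiber ξ) := fun D =>
    preservesColimit_of_iso_diagram _ (Functor.emptyExt _ _ : Functor.empty _ ≅ D)
  haveI : PreservesColimitsOfShape (Discrete PEmpty.{1}) (FEt.fiber ξ) := ⟨inferInstance⟩
  haveI : PreservesColimitsOfShape (Discrete WalkingPair) (FEt.fiber ξ) :=
    ⟨fun {D} => by
      haveI := preservesPair ξ (D.obj ⟨WalkingPair.left⟩) (D.obj ⟨WalkingPair.right⟩)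
      exact preservesColimit_of_iso_diagram _ (diagramIsoPair D).symm⟩
  exact ⟨fun n => PreservesFiniteCoproducts.of_preserves_binary_and_initial (FEt.fiber ξ) (Fin n)⟩

variable [IsAlgClosed Ω]

theorem preservesCoequalizer {Y Z : FEt.Cat X} (φ ψ : Y ⟶ Z) :
    PreservesColimit (parallelPair φ ψ) (FEt.fiber ξ) := by
  classical
  let hφ := MorphismProperty.Over.w φ
  let hψ := MorphismProperty.Over.w ψ
  refine preservesColimit_of_preserves_colimit_cocone (isColimitCoeqCofork φ ψ)
    ((isColimitMapCoconeCoforkEquiv (FEt.fiber ξ) (coeqCofork φ ψ).condition).symm ?_)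
  have hlift : ∀ w : (FEt.fiber ξ).obj (coeqObj φ ψ), ∃ s : (FEt.fiber ξ).obj Z,
      (FEt.fiber ξ).map (coeqCofork φ ψ).π s = w := by
    intro w
    obtain ⟨s, hs, hsw⟩ := exists_point_lift hφ hψ ξ w.1 w.2
    exact ⟨⟨s, hs⟩, Subtype.ext hsw⟩
  have hagree : ∀ (S : Cofork ((FEt.fiber ξ).map φ) ((FEt.fiber ξ).map ψ)) (s t : (FEt.fiber ξ).obj Z),
      (FEt.fiber ξ).map (coeqCofork φ ψ).π s = (FEt.fiber ξ).map (coeqCofork φ ψ).π t → S.π s = S.π t := by
    intro S s t h
    refine point_eqvGen hφ hψ ξ (fun a b => S.π a = S.π b) ⟨fun _ => rfl, Eq.symm, Eq.trans⟩ ?_ s t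
      (congrArg Subtype.val h)
    intro y hy
    exact congr($(S.condition) (⟨y, hy⟩ : (FEt.fiber ξ).obj Y))
  choose lift hl using hlift
  refine Cofork.IsColimit.mk _ (fun S => TypeCat.ofHom fun w => S.π (lift w)) ?_ ?_
  · intro S
    refine ConcreteCategory.hom_ext _ _ fun s => ?_
    exact hagree S _ _ (hl _)
  · intro S m hm
    refine ConcreteCategory.hom_ext _ _ fun w => ?_
    have := congr($hm (lift w))
    change m w = S.π (lift w)
    conv_lhs => rw [← hl w]
    exact this

instance : PreservesFiniteColimits (FEt.fiber ξ) := by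
  haveI : PreservesColimitsOfShape WalkingParallelPair (FEt.fiber ξ) :=
    ⟨fun {D} => by
      haveI := preservesCoequalizer ξ (D.map WalkingParallelPairHom.left) (D.map WalkingParallelPairHom.right)
      exact preservesColimit_of_iso_diagram _ (diagramIsoParallelPair D).symm⟩
  exact preservesFiniteColimits_of_preservesCoequalizers_and_finiteCoproducts _

end fiber

end Groth.Agent.FEtGalois
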