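import Groth.Agent.FEtGalois.FullFaith
import Mathlib.AlgebraicGeometry.Noetherian
import Mathlib.Topology.NoetherianSpace
import Mathlib.Topology.Separation.Connected
import Mathlib.Topology.Spectral.Prespectral

/-!
Connected components and clopen subsets of quasi-compact quasi-separated spaces.
-/

set_option autoImplicit false
set_option backward.isDefEq.respectTransparency false
set_option linter.style.haveILetI false

universe u

open CategoryTheory CategoryTheory.Limits AlgebraicGeometry TopologicalSpace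

namespace Groth.Agent.FEtGalois

theorem discrete_components {T : Type u} [TopologicalSpace T] [NoetherianSpace T] :
    DiscreteTopology (ConnectedComponents T) := by
  haveI : Finite (irreducibleComponents T) :=
    Set.finite_coe_iff.2 NoetherianSpace.finite_irreducibleComponents
  haveI : Finite (ConnectedComponents T) := by
    refine Finite.of_surjective
      (fun Z : irreducibleComponents T => ConnectedComponents.mk Z.2.1.nonempty.some) ?_
    intro c
    obtain ⟨x, rfl⟩ := ConnectedComponents.surjective_coe c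
    refine ⟨⟨_, irreducibleComponent_mem_irreducibleComponents x⟩, ConnectedComponents.coe_eq_coe'.2 ?_⟩
    exact isIrreducible_irreducibleComponent.isPreirreducible.isPreconnected.subset_connectedComponent
      mem_irreducibleComponent isIrreducible_irreducibleComponent.nonempty.some_mem
  infer_instance

/-- Bijectivity on components gives a correspondence of clopen subsets. -/
theorem clopen_of_components {S T : Type u} [TopologicalSpace S] [TopologicalSpace T]
    [DiscreteTopology (ConnectedComponents T)] (f : S → T) (hf : Continuous f)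
    (hbij : Function.Bijective hf.connectedComponentsMap) :
    (∀ C : Set T, IsClopen C → f ⁻¹' C = ∅ → C = ∅) ∧
      ∀ C' : Set S, IsClopen C' → ∃ C : Set T, IsClopen C ∧ f ⁻¹' C = C' := by
  refine ⟨fun C hC he => Set.eq_empty_iff_forall_notMem.2 fun t ht => ?_, fun C' hC' => ?_⟩
  · obtain ⟨c, hc⟩ := hbij.2 (ConnectedComponents.mk t)
    obtain ⟨s, rfl⟩ := ConnectedComponents.surjective_coe c
    rw [hf.connectedComponentsMap_mk, ConnectedComponents.coe_eq_coe'] at hc
    exact Set.notMem_empty s (he ▸ hC.connectedComponent_subset ht hc)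
  · refine ⟨ConnectedComponents.mk ⁻¹' (hf.connectedComponentsMap '' (ConnectedComponents.mk '' C')),
      ⟨(isClosed_discrete _).preimage ConnectedComponents.continuous_coe,
        (isOpen_discrete _).preimage ConnectedComponents.continuous_coe⟩, ?_⟩
    ext s
    constructor
    · rintro ⟨_, ⟨s', hs', rfl⟩, h⟩
      rw [← hf.connectedComponentsMap_mk s] at h
      have h2 := hbij.1 h
      rw [ConnectedComponents.coe_eq_coe] at h2
      exact hC'.connectedComponent_subset hs' (h2 ▸ mem_connectedComponent)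
    · exact fun hs => ⟨_, ⟨s, hs, rfl⟩, hf.connectedComponentsMap_mk s⟩

theorem clopenCorresp_of_bijective {X X₀ : Scheme.{u}} [IsNoetherian X] (i : X₀ ⟶ X)
    (h : ∀ Y : FEt.Cat X, Function.Bijective (pullback.fst Y.hom i).continuous.connectedComponentsMap) :
    ClopenCorresp i := by
  have key : ∀ P : FEt.Cat X, DiscreteTopology (ConnectedComponents P.left) := fun P => by
    let π : P.left ⟶ X := P.hom
    haveI : IsFinite π := P.prop.1
    haveI : IsLocallyNoetherian P.left := LocallyOfFiniteType.isLocallyNoetherian π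
    haveI : CompactSpace P.left := QuasiCompact.compactSpace_of_compactSpace π
    haveI : IsNoetherian P.left := {}
    exact discrete_components
  refine ⟨fun P => ?_, fun P => ?_⟩
  · exact (@clopen_of_components _ _ _ _ (key P) _ (pullback.fst P.hom i).continuous (h P)).1
  · exact (@clopen_of_components _ _ _ _ (key P) _ (pullback.fst P.hom i).continuous (h P)).2

/-- Points of a quasi-compact quasi-separated space in different components are separated by a clopen set. -/
theorem exists_isClopen_of_ne_component {T : Type u} [TopologicalSpace T] [CompactSpace T]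
    [QuasiSeparatedSpace T] [PrespectralSpace T] {x y : T} (h : y ∉ connectedComponent x) :
    ∃ W : Set T, IsClopen W ∧ x ∈ W ∧ y ∉ W := by
  let Q : Set T := ⋂ W : {W : Set T // IsClopen W ∧ x ∈ W}, W.1
  suffices hQ : IsPreconnected Q by
    by_contra hc
    simp only [not_exists, not_and, not_not] at hc
    exact h (hQ.subset_connectedComponent (Set.mem_iInter.2 fun W => W.2.2) (Set.mem_iInter.2 fun W => hc W.1 W.2.1 W.2.2))
  have hQc : IsClosed Q := isClosed_iInter fun W => W.2.1.1
  rw [isPreconnected_closed_iff]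
  intro A' B' hA' hB' hAB hA hB
  by_contra hne
  let A := Q ∩ A'
  let B := Q ∩ B'
  have hAc : IsCompact A := (hQc.inter hA').isCompact
  have hBc : IsCompact B := (hQc.inter hB').isCompact
  have hd : ∀ z, z ∈ A → z ∈ B → False := fun z ha hb => hne ⟨z, ha.1, ha.2, hb.2⟩
  have sep : ∀ {K L : Set T}, IsCompact K → IsClosed L → (∀ z, z ∈ K → z ∈ L → False) →
      ∃ U : Set T, IsOpen U ∧ IsCompact U ∧ K ⊆ U ∧ ∀ z, z ∈ U → z ∈ L → False := by
    intro K L hK hL hKL
    have hcov : ∀ z ∈ K, ∃ U : Set T, IsOpen U ∧ IsCompact U ∧ z ∈ U ∧ U ⊆ Lᶜ := fun z hz => by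
      obtain ⟨U, ⟨h1, h2⟩, h3, h4⟩ := PrespectralSpace.isTopologicalBasis.exists_subset_of_mem_open
        (show z ∈ Lᶜ from fun hzL => hKL z hz hzL) hL.isOpen_compl
      exact ⟨U, h1, h2, h3, h4⟩
    choose! U h1 h2 h3 h4 using hcov
    obtain ⟨t, htK, ht⟩ := hK.elim_nhds_subcover U fun z hz => (h1 z hz).mem_nhds (h3 z hz)
    refine ⟨⋃ z ∈ t, U z, isOpen_biUnion fun z hz => h1 z (htK z hz), t.isCompact_biUnion fun z hz => h2 z (htK z hz), ht, ?_⟩
    intro z hz hzL
    simp only [Set.mem_iUnion] at hz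
    obtain ⟨w, hw, hzw⟩ := hz
    exact h4 w (htK w hw) hzw hzL
  obtain ⟨U, hUo, hUc, hAU, hUB⟩ := sep hAc (hQc.inter hB') hd
  obtain ⟨V, hVo, hVc, hBV, hVA⟩ := sep hBc (hQc.inter hA') fun z hb ha => hd z ha hb
  let K := (U ∩ V) ∪ (U ∪ V)ᶜ
  have hKc : IsCompact K :=
    (QuasiSeparatedSpace.inter_isCompact U V hUo hUc hVo hVc).union (hUo.union hVo).isClosed_compl.isCompact
  obtain ⟨W, hWQ⟩ : ∃ W : {W : Set T // IsClopen W ∧ x ∈ W}, K ∩ W.1 = ∅ := by
    haveI : Nonempty {W : Set T // IsClopen W ∧ x ∈ W} := ⟨⟨Set.univ, isClopen_univ, trivial⟩⟩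
    refine hKc.elim_directed_family_closed _ (fun W => W.2.1.1) ?_ ?_
    · refine Set.eq_empty_iff_forall_notMem.2 fun z ⟨hzK, hzQ⟩ => ?_
      have hz : z ∈ A ∨ z ∈ B := (hAB hzQ).imp (fun h => ⟨hzQ, h⟩) fun h => ⟨hzQ, h⟩
      rcases hzK with ⟨hzU, hzV⟩ | hz'
      · exact hz.elim (hVA z hzV) (hUB z hzU)
      · exact hz' (hz.imp (fun h => hAU h) fun h => hBV h)
    · exact fun W W' => ⟨⟨W.1 ∩ W'.1, W.2.1.inter W'.2.1, W.2.2, W'.2.2⟩,
        Set.inter_subset_left, Set.inter_subset_right⟩
  have hW : ∀ z ∈ W.1, (z ∈ U ∧ z ∉ V) ∨ (z ∈ V ∧ z ∉ U) := by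
    intro z hz
    have : z ∉ K := fun hzK => Set.eq_empty_iff_forall_notMem.1 hWQ z ⟨hzK, hz⟩
    by_cases hu : z ∈ U
    · exact Or.inl ⟨hu, fun hv => this (Or.inl ⟨hu, hv⟩)⟩
    · exact Or.inr ⟨by_contra fun hv => this (Or.inr (fun huv => huv.elim hu hv)), hu⟩
  have key : ∀ {U V : Set T}, IsOpen U → IsOpen V → (∀ z ∈ W.1, (z ∈ U ∧ z ∉ V) ∨ (z ∈ V ∧ z ∉ U)) → IsClopen (W.1 ∩ U) := by
    intro U V hU hV hW
    refine ⟨?_, W.2.1.2.inter hU⟩
    rw [show W.1 ∩ U = W.1 ∩ Vᶜ from Set.ext fun z => ⟨fun ⟨h1, h2⟩ => ⟨h1, fun hv => by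
      rcases hW z h1 with h | h
      · exact h.2 hv
      · exact h.2 h2⟩, fun ⟨h1, h2⟩ => ⟨h1, (hW z h1).elim (fun h => h.1) fun h => absurd h.1 h2⟩⟩]
    exact W.2.1.1.inter hV.isClosed_compl
  have hxW := W.2.2
  rcases hW x hxW with ⟨hxU, -⟩ | ⟨hxV, -⟩
  · obtain ⟨z, hzQ, hzB⟩ := hB
    exact hUB z (Set.mem_iInter.1 hzQ ⟨_, key hUo hVo hW, hxW, hxU⟩).2 ⟨hzQ, hzB⟩
  · obtain ⟨z, hzQ, hzA⟩ := hA
    exact hVA z (Set.mem_iInter.1 hzQ ⟨_, key hVo hUo (fun z hz => (hW z hz).symm), hxW, hxV⟩).2 ⟨hzQ, hzA⟩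

/-- A map inducing a bijection of clopen sets is a homeomorphism on components. -/
theorem isHomeomorph_components {S T : Type u} [TopologicalSpace S] [TopologicalSpace T] [CompactSpace S]
    [QuasiSeparatedSpace S] [PrespectralSpace S] [CompactSpace T] [QuasiSeparatedSpace T] [PrespectralSpace T]
    (f : S → T) (hf : Continuous f) (h1 : ∀ C : Set T, IsClopen C → f ⁻¹' C = ∅ → C = ∅)
    (h2 : ∀ C' : Set S, IsClopen C' → ∃ C : Set T, IsClopen C ∧ f ⁻¹' C = C') :
    IsHomeomorph hf.connectedComponentsMap := by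
  haveI : T2Space (ConnectedComponents T) := by
    refine ⟨fun a b hab => ?_⟩
    obtain ⟨x, rfl⟩ := ConnectedComponents.surjective_coe a
    obtain ⟨y, rfl⟩ := ConnectedComponents.surjective_coe b
    obtain ⟨W, hW, hxW, hyW⟩ := exists_isClopen_of_ne_component
      (show y ∉ connectedComponent x from fun hy => hab (ConnectedComponents.coe_eq_coe'.2 hy).symm)
    have hpre : ConnectedComponents.mk ⁻¹' (ConnectedComponents.mk '' W) = W := by
      rw [connectedComponents_preimage_image, hW.biUnion_connectedComponent_eq]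
    refine ⟨ConnectedComponents.mk '' W, (ConnectedComponents.mk '' W)ᶜ, ?_, ?_, ⟨x, hxW, rfl⟩, ?_, disjoint_compl_right⟩
    · rw [← ConnectedComponents.isQuotientMap_coe.isOpen_preimage, hpre]; exact hW.2
    · rw [isOpen_compl_iff, ← ConnectedComponents.isQuotientMap_coe.isClosed_preimage, hpre]; exact hW.1
    · exact fun hy => hyW (hpre ▸ hy : y ∈ W)
  rw [isHomeomorph_iff_continuous_bijective]
  refine ⟨hf.connectedComponentsMap_continuous, ?_, ?_⟩
  · intro a b hab
    obtain ⟨x, rfl⟩ := ConnectedComponents.surjective_coe a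
    obtain ⟨y, rfl⟩ := ConnectedComponents.surjective_coe b
    rw [hf.connectedComponentsMap_mk, hf.connectedComponentsMap_mk, ConnectedComponents.coe_eq_coe'] at hab
    by_contra hne
    obtain ⟨W, hW, hxW, hyW⟩ := exists_isClopen_of_ne_component
      (show y ∉ connectedComponent x from fun hy => hne (ConnectedComponents.coe_eq_coe'.2 hy).symm)
    obtain ⟨C, hC, rfl⟩ := h2 W hW
    refine hyW ?_
    by_contra hyC
    exact (hC.compl.connectedComponent_subset (show f y ∈ Cᶜ from hyC) hab) hxW
  · intro b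
    obtain ⟨y, rfl⟩ := ConnectedComponents.surjective_coe b
    by_contra hc
    simp only [not_exists] at hc
    have hcov : ∀ x : S, ∃ C : Set T, IsClopen C ∧ f x ∈ C ∧ y ∉ C := fun x =>
      exists_isClopen_of_ne_component fun hy =>
        hc (ConnectedComponents.mk x) ((hf.connectedComponentsMap_mk x).trans (ConnectedComponents.coe_eq_coe'.2 hy).symm)
    choose C hC hxC hyC using hcov
    obtain ⟨t, ht⟩ := isCompact_univ.elim_finite_subcover (fun x => f ⁻¹' C x) (fun x => (hC x).2.preimage hf)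
      fun x _ => Set.mem_iUnion.2 ⟨x, hxC x⟩
    have hD : IsClopen (⋂ x ∈ t, (C x)ᶜ) := ⟨isClosed_biInter fun x _ => (hC x).compl.1,
      isOpen_biInter_finset fun x _ => (hC x).compl.2⟩
    have := h1 _ hD (Set.eq_empty_iff_forall_notMem.2 fun z hz => by
      have h' := ht (Set.mem_univ z)
      simp only [Set.mem_iUnion] at h'
      obtain ⟨x, hx, hzx⟩ := h'
      exact (Set.mem_iInter₂.1 hz x hx) hzx)
    exact Set.eq_empty_iff_forall_notMem.1 this y (Set.mem_iInter₂.2 fun x _ => hyC x)

theorem components_homeomorph_of_isEquivalence {X Y : Scheme.{u}} [CompactSpace X] [QuasiSeparatedSpace X]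
    [CompactSpace Y] [QuasiSeparatedSpace Y] (f : X ⟶ Y) (h : (FEt.restrict f).IsEquivalence) :
    IsHomeomorph f.continuous.connectedComponentsMap := by
  haveI := (restrict_exact f).1
  let T := MorphismProperty.Over.mk (P := FEt.prop) ⊤ (𝟙 Y) ⟨inferInstance, inferInstance⟩
  refine isHomeomorph_components _ f.continuous (fun C hC he => ?_) (fun C' hC' => ?_)
  · let Cobj := clopenObj T hC
    have hempty : IsEmpty ((FEt.restrict f).obj Cobj).left := by
      refine ⟨fun z => Set.eq_empty_iff_forall_notMem.1 he (pullback.snd Cobj.hom f z) ?_⟩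
      change f (pullback.snd Cobj.hom f z) ∈ C
      rw [← Scheme.Hom.comp_apply, ← pullback.condition]
      exact Subtype.property (pullback.fst Cobj.hom f z : clopenOpens T hC)
    let φ := (isInitialEmptyObj (X := Y)).to Cobj
    haveI : IsIso ((FEt.restrict f).map φ) := by
      haveI : IsEmpty ((FEt.restrict f).obj (emptyObj (X := Y))).left :=
        ⟨fun z => IsEmpty.false (α := (∅ : Scheme.{u})) (pullback.fst emptyObj.hom f z)⟩
      refine isIso_of_bijective _ fun Ω _ _ ξ => ⟨fun a => (IsEmpty.false (a.1 default)).elim,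
        fun b => (IsEmpty.false (b.1 default)).elim⟩
    haveI := isIso_of_reflects_iso φ (FEt.restrict f)
    refine Set.eq_empty_iff_forall_notMem.2 fun y hy => ?_
    exact IsEmpty.false (α := (∅ : Scheme.{u})) ((inv φ).left (⟨y, hy⟩ : clopenOpens T hC))
  · let T' := MorphismProperty.Over.mk (P := FEt.prop) ⊤ (𝟙 X) ⟨inferInstance, inferInstance⟩
    let O' := clopenObj T' hC'
    let O := (FEt.restrict f).objPreimage O'
    let e := (FEt.restrict f).objObjPreimageIso O'
    refine ⟨Set.range O.hom, ⟨?_, ?_⟩, ?_⟩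
    · exact (O.hom : O.left ⟶ Y).isClosedMap.isClosed_range
    · exact (O.hom : O.left ⟶ Y).isOpenMap.isOpen_range
    · have h1 : Set.range (pullback.snd O.hom f) = f ⁻¹' Set.range O.hom := Scheme.Pullback.range_snd _ _
      have he1 : e.hom.left ≫ O'.hom = pullback.snd O.hom f := MorphismProperty.Over.w e.hom
      have he2 : e.inv.left ≫ pullback.snd O.hom f = O'.hom := MorphismProperty.Over.w e.inv
      have hO' : Set.range O'.hom = C' := by
        change Set.range ((clopenOpens T' hC').ι ≫ 𝟙 X) = C'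
        exact (congrArg (fun k : ((clopenOpens T' hC' : X.Opens) : Scheme.{u}) ⟶ X => Set.range k) (Category.comp_id _)).trans (Scheme.Opens.range_ι _)
      rw [← h1, ← hO']
      refine Set.Subset.antisymm ?_ ?_
      · rw [← he1]; rintro _ ⟨z, rfl⟩; exact ⟨e.hom.left z, rfl⟩
      · rw [← he2]; rintro _ ⟨z, rfl⟩; exact ⟨e.inv.left z, rfl⟩

end Groth.Agent.FEtGalois
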