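import Groth.Agent.FEtGalois.Cat
import Mathlib.AlgebraicGeometry.AlgClosed.Basic
import Mathlib.AlgebraicGeometry.Morphisms.FlatMono
import Mathlib.AlgebraicGeometry.Morphisms.FormallyUnramified
import Mathlib.RingTheory.Spectrum.Prime.FreeLocus

/-!
Fibres of finite etale covers: isomorphism criterion, local constancy of the degree.
-/

set_option autoImplicit false
set_option backward.isDefEq.respectTransparency false
set_option linter.style.haveILetI false

universe u

open CategoryTheory CategoryTheory.Limits AlgebraicGeometry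

noncomputable section

namespace Groth.Agent.FEtGalois

variable {X : Scheme.{u}}

/-- An algebraically closed field over a point. -/
abbrev closureField (x : X) : Type u := AlgebraicClosure (X.residueField x)

/-- A geometric point over a point. -/
def geomPt (x : X) : Spec (CommRingCat.of (closureField x)) ⟶ X :=
  Spec.map (CommRingCat.ofHom (algebraMap (X.residueField x) (closureField x))) ≫ X.fromSpecResidueField x

theorem geomPt_apply (x : X) (p : Spec (CommRingCat.of (closureField x))) : geomPt x p = x := by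
  rw [geomPt, Scheme.Hom.comp_apply]
  exact Scheme.fromSpecResidueField_apply x _

theorem exists_lift {Z W : Scheme.{u}} (v : Z ⟶ W) [IsFinite v] {Ω : Type u} [Field Ω] [IsAlgClosed Ω]
    (ζ : Spec (CommRingCat.of Ω) ⟶ W) (h : ζ default ∈ Set.range v) : ∃ s, s ≫ v = ζ := by
  let P := pullback v ζ
  haveI : JacobsonSpace P := LocallyOfFiniteType.jacobsonSpace (pullback.snd v ζ)
  have hne : Nonempty P := by
    have h2 : default ∈ Set.range (pullback.snd v ζ) := by rw [Scheme.Pullback.range_snd]; exact h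
    exact ⟨h2.choose⟩
  obtain ⟨x, hx⟩ : (closedPoints P).Nonempty := by
    by_contra hc
    rw [Set.not_nonempty_iff_eq_empty] at hc
    have := closure_closedPoints (X := P)
    rw [hc, closure_empty] at this
    exact (this.symm ▸ Set.mem_univ hne.some : hne.some ∈ (∅ : Set P))
  refine ⟨pointOfClosedPoint (pullback.snd v ζ) x hx ≫ pullback.fst v ζ, ?_⟩
  rw [Category.assoc, pullback.condition, pointOfClosedPoint_comp_assoc]

theorem isIso_of_isIso_left {Y Z : FEt.Cat X} (φ : Y ⟶ Z) [IsIso φ.left] : IsIso φ := by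
  refine ⟨⟨MorphismProperty.Over.homMk (inv φ.left) ?_, hom_ext' ?_, hom_ext' ?_⟩⟩
  · rw [IsIso.inv_comp_eq]; exact (MorphismProperty.Over.w φ).symm
  · exact IsIso.hom_inv_id _
  · exact IsIso.inv_hom_id _

/-- Covers which are bijective on all geometric fibres are isomorphisms. -/
theorem isIso_of_bijective {Y Z : FEt.Cat X} (φ : Y ⟶ Z)
    (h : ∀ (Ω : Type u) [Field Ω] [IsAlgClosed Ω] (ξ : Spec (CommRingCat.of Ω) ⟶ X),
      Function.Bijective ((FEt.fiber ξ).map φ)) : IsIso φ := by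
  haveI : Surjective φ.left := ⟨fun z => by
    obtain ⟨s, hs⟩ := (h _ (geomPt z ≫ Z.hom)).2 ⟨geomPt z, rfl⟩
    refine ⟨s.1 default, ?_⟩
    have h1 : s.1 ≫ φ.left = geomPt z := congrArg Subtype.val hs
    rw [← Scheme.Hom.comp_apply, h1, geomPt_apply]⟩
  haveI : Mono φ.left := by
    rw [← pullback.isIso_diagonal_iff]
    haveI : Surjective (pullback.diagonal φ.left) := ⟨fun p => by
      let ζ := geomPt p
      have h1 : (ζ ≫ pullback.fst φ.left φ.left) ≫ φ.left = (ζ ≫ pullback.snd φ.left φ.left) ≫ φ.left := by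
        rw [Category.assoc, Category.assoc, pullback.condition]
      have hsY : (ζ ≫ pullback.snd φ.left φ.left) ≫ Y.hom = (ζ ≫ pullback.fst φ.left φ.left) ≫ Y.hom := by
        rw [← MorphismProperty.Over.w φ, ← Category.assoc _ φ.left, ← Category.assoc _ φ.left, h1]
      have h2 := (h _ ((ζ ≫ pullback.fst φ.left φ.left) ≫ Y.hom)).1
        (a₁ := ⟨_, rfl⟩) (a₂ := ⟨ζ ≫ pullback.snd φ.left φ.left, hsY⟩) (Subtype.ext h1)
      have h3 : ζ = (ζ ≫ pullback.fst φ.left φ.left) ≫ pullback.diagonal φ.left := by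
        apply pullback.hom_ext
        · simp
        · simpa using (congrArg Subtype.val h2).symm
      refine ⟨(ζ ≫ pullback.fst φ.left φ.left) default, ?_⟩
      rw [← Scheme.Hom.comp_apply, ← h3, geomPt_apply]⟩
    haveI : Epi (pullback.diagonal φ.left).base :=
      (TopCat.epi_iff_surjective _).2 (pullback.diagonal φ.left).surjective
    exact IsOpenImmersion.isIso _
  haveI := Flat.isIso_of_surjective_of_mono φ.left
  exact isIso_of_isIso_left φ

section complement

variable {Y Z : FEt.Cat X} (φ : Y ⟶ Z)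

/-- The complement of the image. -/
def complOpens : Z.left.Opens :=
  ⟨(Set.range φ.left)ᶜ, φ.left.isClosedMap.isClosed_range.isOpen_compl⟩

instance : IsFinite (complOpens φ).ι := by
  haveI : IsClosedImmersion (complOpens φ).ι := by
    refine IsClosedImmersion.of_isPreimmersion _ ?_
    rw [Scheme.Opens.range_ι]
    exact (φ.left.isOpenMap.isOpen_range).isClosed_compl
  infer_instance

/-- The complementary cover. -/
def complObj : FEt.Cat X :=
  MorphismProperty.Over.mk _ ((complOpens φ).ι ≫ Z.hom) ⟨inferInstance, inferInstance⟩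

/-- Its inclusion. -/
def complHom : complObj φ ⟶ Z := MorphismProperty.Over.homMk (complOpens φ).ι rfl

variable {Ω : Type u} [Field Ω] (ξ : Spec (CommRingCat.of Ω) ⟶ X)

theorem fiber_complHom_injective : Function.Injective ((FEt.fiber ξ).map (complHom φ)) :=
  fun _ _ h => Subtype.ext ((cancel_mono (complOpens φ).ι).1 (congrArg Subtype.val h))

theorem mem_range_complHom_iff (s : (FEt.fiber ξ).obj Z) :
    s ∈ Set.range ((FEt.fiber ξ).map (complHom φ)) ↔ s.1 default ∉ Set.range φ.left := by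
  constructor
  · rintro ⟨t, rfl⟩
    exact (t.1 default).2
  · intro h
    have hr : Set.range s.1 ⊆ Set.range (complOpens φ).ι := by
      rw [Scheme.Opens.range_ι]
      rintro _ ⟨p, rfl⟩
      rw [Subsingleton.elim p default]; exact h
    refine ⟨⟨IsOpenImmersion.lift (complOpens φ).ι s.1 hr, ?_⟩, Subtype.ext (IsOpenImmersion.lift_fac _ _ _)⟩
    exact ((Category.assoc _ _ _).symm.trans (congrArg (· ≫ Z.hom) (IsOpenImmersion.lift_fac _ _ _))).trans s.2

variable [IsAlgClosed Ω]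

theorem mem_range_map_iff (s : (FEt.fiber ξ).obj Z) :
    s ∈ Set.range ((FEt.fiber ξ).map φ) ↔ s.1 default ∈ Set.range φ.left := by
  constructor
  · rintro ⟨t, rfl⟩
    exact ⟨t.1 default, rfl⟩
  · intro h
    obtain ⟨t, ht⟩ := exists_lift φ.left s.1 h
    refine ⟨⟨t, ?_⟩, Subtype.ext ht⟩
    rw [← MorphismProperty.Over.w φ, ← Category.assoc, ht]
    exact s.2

end complement

theorem monoInducesIsoOnDirectSummand {Y Z : FEt.Cat X} (φ : Y ⟶ Z) [Mono φ] :
    ∃ (W : FEt.Cat X) (v : W ⟶ Z), Nonempty (IsColimit (BinaryCofan.mk φ v)) := by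
  refine ⟨complObj φ, complHom φ, ⟨?_⟩⟩
  let m : sumObj Y (complObj φ) ⟶ Z := (isColimitSumCofan Y (complObj φ)).desc (BinaryCofan.mk φ (complHom φ))
  have hl : (sumCofan Y (complObj φ)).inl ≫ m = φ :=
    (isColimitSumCofan Y (complObj φ)).fac (BinaryCofan.mk φ (complHom φ)) ⟨WalkingPair.left⟩
  have hr : (sumCofan Y (complObj φ)).inr ≫ m = complHom φ :=
    (isColimitSumCofan Y (complObj φ)).fac (BinaryCofan.mk φ (complHom φ)) ⟨WalkingPair.right⟩
  haveI : IsIso m := by
    refine isIso_of_bijective m fun Ω _ _ ξ => ?_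
    obtain ⟨-, -, hc⟩ := fiber_sum_inj_disjoint ξ (Y := Y) (Z := complObj φ)
    have hmφ : ∀ y, (FEt.fiber ξ).map m ((FEt.fiber ξ).map (sumCofan Y (complObj φ)).inl y) =
        (FEt.fiber ξ).map φ y := fun y => by
      conv_rhs => rw [← hl, Functor.map_comp]
      rfl
    have hmj : ∀ y, (FEt.fiber ξ).map m ((FEt.fiber ξ).map (sumCofan Y (complObj φ)).inr y) =
        (FEt.fiber ξ).map (complHom φ) y := fun y => by
      conv_rhs => rw [← hr, Functor.map_comp]
      rfl
    have hinj : Function.Injective ((FEt.fiber ξ).map φ) :=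
      (mono_iff_injective _).1 inferInstance
    have hdisj : ∀ y y', (FEt.fiber ξ).map φ y ≠ (FEt.fiber ξ).map (complHom φ) y' := fun y y' h =>
      (mem_range_complHom_iff φ ξ _).1 ⟨y', h.symm⟩ ((mem_range_map_iff φ ξ _).1 ⟨y, rfl⟩)
    constructor
    · intro a b hab
      rcases hc.codisjoint.top_le (Set.mem_univ a) with ⟨a, rfl⟩ | ⟨a, rfl⟩ <;>
      rcases hc.codisjoint.top_le (Set.mem_univ b) with ⟨b, rfl⟩ | ⟨b, rfl⟩
      · rw [hmφ, hmφ] at hab; rw [hinj hab]
      · rw [hmφ, hmj] at hab; exact absurd hab (hdisj _ _)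
      · rw [hmφ, hmj] at hab; exact absurd hab.symm (hdisj _ _)
      · rw [hmj, hmj] at hab; rw [fiber_complHom_injective φ ξ hab]
    · intro z
      by_cases hz : z.1 default ∈ Set.range φ.left
      · obtain ⟨y, hy⟩ := (mem_range_map_iff φ ξ z).2 hz
        exact ⟨_, (hmφ y).trans hy⟩
      · obtain ⟨y, hy⟩ := (mem_range_complHom_iff φ ξ z).2 hz
        exact ⟨_, (hmj y).trans hy⟩
  exact IsColimit.ofIsoColimit (isColimitSumCofan Y (complObj φ))
    (BinaryCofan.ext (asIso m) hl hr)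

section degree

variable {Ω : Type u} [Field Ω]

theorem exists_chart_point_of_mem (U : X.affineOpens) (ξ : Spec (CommRingCat.of Ω) ⟶ X) (h : ξ default ∈ U.1) :
    ∃ a : Γ(X, U.1) ⟶ CommRingCat.of Ω, ξ = Spec.map a ≫ U.2.fromSpec := by
  have hr : Set.range ξ ⊆ Set.range U.2.fromSpec := by
    rw [IsAffineOpen.range_fromSpec]
    rintro _ ⟨p, rfl⟩
    rw [Subsingleton.elim p default]
    exact h
  refine ⟨Spec.preimage (IsOpenImmersion.lift U.2.fromSpec ξ hr), ?_⟩
  rw [Spec.map_preimage, IsOpenImmersion.lift_fac]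

/-- Fibres in a chart are sets of algebra maps. -/
theorem nonempty_fiber_equiv_algHom {Z : Scheme.{u}} (π : Z ⟶ X) [IsAffineHom π] (U : X.affineOpens) (a : Γ(X, U.1) ⟶ CommRingCat.of Ω) :
    letI := (π.app U.1).hom.toAlgebra
    letI : Algebra Γ(X, U.1) Ω := a.hom.toAlgebra
    Nonempty ((Γ(Z, π ⁻¹ᵁ U.1) →ₐ[Γ(X, U.1)] Ω) ≃
      {s : Spec (CommRingCat.of Ω) ⟶ Z // s ≫ π = Spec.map a ≫ U.2.fromSpec}) := by
  letI := (π.app U.1).hom.toAlgebra
  letI : Algebra Γ(X, U.1) Ω := a.hom.toAlgebra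
  refine ⟨Equiv.ofBijective (fun σ => ⟨ptOf π U (CommRingCat.ofHom σ.toRingHom), ?_⟩) ⟨?_, ?_⟩⟩
  · rw [ptOf_comp]
    congr 2
    ext r
    exact σ.commutes r
  · intro σ τ h
    exact AlgHom.ext fun x => congr($(ptOf_injective π U (congrArg Subtype.val h)) x)
  · intro s
    obtain ⟨σ, hσ, hσa⟩ := exists_ptOf π U a s.2
    exact ⟨⟨σ.hom, fun r => congr($hσa r)⟩, Subtype.ext hσ⟩

theorem finite_algHom {A C : Type u} [CommRing A] [CommRing C] [Algebra A C] [Algebra A Ω] [Module.Finite A C] :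
    Finite (C →ₐ[A] Ω) := by
  haveI : Finite (TensorProduct A Ω C →ₐ[Ω] Ω) := inferInstance
  exact Finite.of_equiv _ (Algebra.TensorProduct.liftEquivRight A Ω C Ω).symm

theorem finite_points {Z : Scheme.{u}} (π : Z ⟶ X) [IsFinite π] (ξ : Spec (CommRingCat.of Ω) ⟶ X) :
    Finite {s : Spec (CommRingCat.of Ω) ⟶ Z // s ≫ π = ξ} := by
  obtain ⟨U, a, rfl⟩ := exists_chart_point ξ
  letI := (π.app U.1).hom.toAlgebra
  letI : Algebra Γ(X, U.1) Ω := a.hom.toAlgebra
  haveI : Module.Finite Γ(X, U.1) Γ(Z, π ⁻¹ᵁ U.1) := IsFinite.finite_app π U.1 U.2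
  haveI := finite_algHom (Ω := Ω) (A := Γ(X, U.1)) (C := Γ(Z, π ⁻¹ᵁ U.1))
  exact Finite.of_equiv _ (nonempty_fiber_equiv_algHom π U a).some

instance fiber_finite {Y : FEt.Cat X} (ξ : Spec (CommRingCat.of Ω) ⟶ X) : Finite ((FEt.fiber ξ).obj Y) :=
  finite_points Y.hom ξ

/-- The rank of a cover on an affine open. -/
def chartRank {Z : Scheme.{u}} (π : Z ⟶ X) (U : X.affineOpens) : PrimeSpectrum Γ(X, U.1) → ℕ :=
  letI := (π.app U.1).hom.toAlgebra
  Module.rankAtStalk (R := Γ(X, U.1)) Γ(Z, π ⁻¹ᵁ U.1)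

variable [IsAlgClosed Ω]

theorem card_fiber {Z : Scheme.{u}} (π : Z ⟶ X) [IsFinite π] [Etale π] (U : X.affineOpens)
    (ξ : Spec (CommRingCat.of Ω) ⟶ X) (h : ξ default ∈ U.1) :
    Nat.card {s : Spec (CommRingCat.of Ω) ⟶ Z // s ≫ π = ξ} = chartRank π U (U.2.primeIdealOf ⟨ξ default, h⟩) := by
  obtain ⟨a, ha⟩ := exists_chart_point_of_mem U ξ h
  subst ha
  letI := (π.app U.1).hom.toAlgebra
  letI : Algebra Γ(X, U.1) Ω := a.hom.toAlgebra
  haveI : Module.Finite Γ(X, U.1) Γ(Z, π ⁻¹ᵁ U.1) := IsFinite.finite_app π U.1 U.2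
  haveI : Algebra.Etale Γ(X, U.1) Γ(Z, π ⁻¹ᵁ U.1) := algebraEtale_app U
  rw [← Nat.card_congr (nonempty_fiber_equiv_algHom π U a).some,
    Nat.card_congr (Algebra.TensorProduct.liftEquivRight Γ(X, U.1) Ω Γ(Z, π ⁻¹ᵁ U.1) Ω)]
  have hp : U.2.primeIdealOf ⟨_, h⟩ = PrimeSpectrum.comap (algebraMap Γ(X, U.1) Ω) default := by
    apply U.2.fromSpec.isOpenEmbedding.injective
    rw [IsAffineOpen.fromSpec_primeIdealOf]
    exact congrArg U.2.fromSpec (congrArg (PrimeSpectrum.comap a.hom) (Subsingleton.elim _ _))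
  let D := TensorProduct Γ(X, U.1) Ω Γ(Z, π ⁻¹ᵁ U.1)
  haveI := Fintype.ofFinite (D →ₐ[Ω] Ω)
  let L : D →ₗ[Ω] ((D →ₐ[Ω] Ω) → Ω) := LinearMap.pi fun χ => χ.toLinearMap
  have hL : Function.Bijective L := ev_bijective
  rw [chartRank, hp, ← Module.rankAtStalk_baseChange, Module.rankAtStalk_eq_finrank_of_free, Pi.natCast_apply,
    Nat.cast_id, (LinearEquiv.ofBijective L hL).finrank_eq, Module.finrank_fintype_fun_eq_card, Nat.card_eq_fintype_card]

end degree

section connected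

variable {Ω : Type u} [Field Ω] [IsAlgClosed Ω]

omit [IsAlgClosed Ω] in
theorem isLocallyConstant_chartRank {Z : Scheme.{u}} (π : Z ⟶ X) [IsFinite π] [Etale π] (U : X.affineOpens) :
    IsLocallyConstant (chartRank π U) := by
  letI := (π.app U.1).hom.toAlgebra
  haveI : Module.Finite Γ(X, U.1) Γ(Z, π ⁻¹ᵁ U.1) := IsFinite.finite_app π U.1 U.2
  haveI : Algebra.Etale Γ(X, U.1) Γ(Z, π ⁻¹ᵁ U.1) := algebraEtale_app U
  haveI : Module.FinitePresentation Γ(X, U.1) Γ(Z, π ⁻¹ᵁ U.1) := .of_finite_of_finitePresentation _ _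
  exact Module.isLocallyConstant_rankAtStalk

/-- The degree of a cover at a point. -/
def degree (Y : FEt.Cat X) (x : X) : ℕ := Nat.card ((FEt.fiber (geomPt x)).obj Y)

theorem card_fiber_eq_degree (Y : FEt.Cat X) (ξ : Spec (CommRingCat.of Ω) ⟶ X) :
    Nat.card ((FEt.fiber ξ).obj Y) = degree Y (ξ default) := by
  obtain ⟨U, hU, hxU, -⟩ := exists_isAffineOpen_mem_and_subset (X := X) (x := ξ default) (U := ⊤) (Set.mem_univ _)
  have hx' : geomPt (ξ default) default ∈ U := by rw [geomPt_apply]; exact hxU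
  refine (card_fiber Y.hom ⟨U, hU⟩ ξ hxU).trans ?_
  refine Eq.trans ?_ (card_fiber Y.hom ⟨U, hU⟩ _ hx').symm
  congr 2
  exact Subtype.ext (geomPt_apply _ _).symm

theorem isLocallyConstant_degree (Y : FEt.Cat X) : IsLocallyConstant (degree Y) := by
  rw [IsLocallyConstant.iff_exists_open]
  intro x
  obtain ⟨U, hU, hxU, -⟩ := exists_isAffineOpen_mem_and_subset (X := X) (x := x) (U := ⊤) (Set.mem_univ _)
  have hlc : IsLocallyConstant (chartRank Y.hom ⟨U, hU⟩) := isLocallyConstant_chartRank Y.hom _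
  have hdeg : ∀ (y : X) (hy : y ∈ U), degree Y y = chartRank Y.hom ⟨U, hU⟩ (hU.primeIdealOf ⟨y, hy⟩) := by
    intro y hy
    have hy' : geomPt y default ∈ U := by rw [geomPt_apply]; exact hy
    refine (card_fiber Y.hom ⟨U, hU⟩ _ hy').trans ?_
    congr 2
    exact Subtype.ext (geomPt_apply _ _)
  let S := (chartRank Y.hom ⟨U, hU⟩) ⁻¹' {chartRank Y.hom ⟨U, hU⟩ (hU.primeIdealOf ⟨x, hxU⟩)}
  refine ⟨hU.fromSpec '' S, hU.fromSpec.isOpenEmbedding.isOpenMap _ (hlc.isOpen_fiber _),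
    ⟨_, rfl, hU.fromSpec_primeIdealOf ⟨x, hxU⟩⟩, ?_⟩
  rintro _ ⟨p, hp, rfl⟩
  have hpU : hU.fromSpec p ∈ U := by rw [← SetLike.mem_coe, ← hU.range_fromSpec]; exact Set.mem_range_self _
  rw [hdeg _ hpU, hdeg _ hxU,
    hU.fromSpec.isOpenEmbedding.injective (hU.fromSpec_primeIdealOf ⟨_, hpU⟩)]
  exact hp

variable [ConnectedSpace X] (ξ : Spec (CommRingCat.of Ω) ⟶ X)

theorem card_fiber_eq_card_fiber {Ω' : Type u} [Field Ω'] [IsAlgClosed Ω'] (ξ' : Spec (CommRingCat.of Ω') ⟶ X)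
    (Y : FEt.Cat X) : Nat.card ((FEt.fiber ξ).obj Y) = Nat.card ((FEt.fiber ξ').obj Y) := by
  rw [card_fiber_eq_degree, card_fiber_eq_degree, (isLocallyConstant_degree Y).apply_eq_of_preconnectedSpace]

theorem isIso_of_bijective_at {Y Z : FEt.Cat X} (φ : Y ⟶ Z) (h : Function.Bijective ((FEt.fiber ξ).map φ)) :
    IsIso φ := by
  refine isIso_of_bijective φ fun Ω' _ _ ξ' => ?_
  have hempty : IsEmpty ((FEt.fiber ξ).obj (complObj φ)) := ⟨fun t => by
    obtain ⟨y, hy⟩ := h.2 ((FEt.fiber ξ).map (complHom φ) t)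
    exact (mem_range_complHom_iff φ ξ _).1 ⟨t, rfl⟩ ((mem_range_map_iff φ ξ _).1 ⟨y, hy⟩)⟩
  have hempty' : IsEmpty ((FEt.fiber ξ').obj (complObj φ)) := by
    rw [← Finite.card_eq_zero_iff, ← card_fiber_eq_card_fiber ξ ξ', Finite.card_eq_zero_iff]
    exact hempty
  have hsurj : Function.Surjective ((FEt.fiber ξ').map φ) := fun z => by
    by_cases hz : z.1 default ∈ Set.range φ.left
    · exact (mem_range_map_iff φ ξ' z).2 hz
    · exact (hempty'.false ((mem_range_complHom_iff φ ξ' z).2 hz).choose).elim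
  refine hsurj.bijective_of_nat_card_le ?_
  rw [← card_fiber_eq_card_fiber ξ ξ' Y, ← card_fiber_eq_card_fiber ξ ξ' Z, Nat.card_congr (Equiv.ofBijective _ h)]

end connected

end Groth.Agent.FEtGalois
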