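import Groth.Agent.FEtGalois.Fibres
import Mathlib.CategoryTheory.Galois.Prorepresentability
import Mathlib.CategoryTheory.Limits.FintypeCat

/-!
Base change of finite etale covers is exact; the Galois category of a connected scheme.
-/

set_option autoImplicit false
set_option backward.isDefEq.respectTransparency false
set_option linter.style.haveILetI false

universe u

open CategoryTheory CategoryTheory.Limits AlgebraicGeometry

noncomputable section

namespace Groth.Agent.FEtGalois

variable {X Y : Scheme.{u}} (f : X ⟶ Y)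

/-- Points of a base change. -/
def fiberRestrictIso {Ω : Type u} [Field Ω] (ξ : Spec (CommRingCat.of Ω) ⟶ X) :
    FEt.restrict f ⋙ FEt.fiber ξ ≅ FEt.fiber (ξ ≫ f) :=
  NatIso.ofComponents
    (fun W => Equiv.toIso
      { toFun := fun s => ⟨s.1 ≫ pullback.fst W.hom f, by
          rw [Category.assoc, pullback.condition, ← Category.assoc]
          exact congrArg (· ≫ f) s.2⟩
        invFun := fun s => ⟨pullback.lift s.1 ξ s.2, pullback.lift_snd _ _ _⟩
        left_inv := fun s => Subtype.ext (pullback.hom_ext (pullback.lift_fst _ _ _)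
          ((pullback.lift_snd _ _ _).trans s.2.symm))
        right_inv := fun s => Subtype.ext (pullback.lift_fst _ _ _) })
    fun {W W'} φ => ConcreteCategory.hom_ext _ _ fun s => Subtype.ext <| by
      change (s.1 ≫ ((FEt.restrict f).map φ).left) ≫ pullback.fst W'.hom f = (s.1 ≫ pullback.fst W.hom f) ≫ φ.left
      simp [FEt.restrict]

theorem preservesColimit_restrict {J : Type} [SmallCategory J] [FinCategory J] (D : J ⥤ FEt.Cat Y) :
    PreservesColimit D (FEt.restrict f) := by
  obtain ⟨c, hc⟩ : ∃ c : Cocone D, Nonempty (IsColimit c) := ⟨_, ⟨colimit.isColimit D⟩⟩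
  obtain ⟨d, hd⟩ : ∃ d : Cocone (D ⋙ FEt.restrict f), Nonempty (IsColimit d) := ⟨_, ⟨colimit.isColimit _⟩⟩
  let m := hd.some.descCoconeMorphism ((FEt.restrict f).mapCocone c)
  have : IsIso m.hom := by
    refine isIso_of_bijective m.hom fun Ω _ _ ξ => ?_
    rw [← isIso_iff_bijective]
    haveI : PreservesColimit D (FEt.restrict f ⋙ FEt.fiber ξ) :=
      preservesColimit_of_natIso D (fiberRestrictIso f ξ).symm
    have h1 : IsColimit ((FEt.fiber ξ).mapCocone d) := isColimitOfPreserves (FEt.fiber ξ) hd.some
    have h2 : IsColimit ((FEt.fiber ξ).mapCocone ((FEt.restrict f).mapCocone c)) :=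
      isColimitOfPreserves (FEt.restrict f ⋙ FEt.fiber ξ) hc.some
    haveI := h1.hom_isIso h2 ((Cocone.functoriality _ (FEt.fiber ξ)).map m)
    exact (Cocone.forget _).map_isIso ((Cocone.functoriality _ (FEt.fiber ξ)).map m)
  haveI : IsIso m := Cocone.cocone_iso_of_hom_iso m
  exact preservesColimit_of_preserves_colimit_cocone hc.some (IsColimit.ofIsoColimit hd.some (asIso m))

theorem restrict_exact : PreservesFiniteLimits (FEt.restrict f) ∧ PreservesFiniteColimits (FEt.restrict f) :=
  ⟨inferInstanceAs (PreservesFiniteLimits (MorphismProperty.Over.pullback FEt.prop ⊤ f)),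
    ⟨fun _ _ _ => ⟨fun {D} => preservesColimit_restrict f D⟩⟩⟩

variable {Ω : Type u} [Field Ω] (ξ : Spec (CommRingCat.of Ω) ⟶ X)

/-- The fibre functor with values in finite sets. -/
def fiberFin : FEt.Cat X ⥤ FintypeCat.{u} where
  obj W := FintypeCat.of ((FEt.fiber ξ).obj W)
  map φ := FintypeCat.homMk ((FEt.fiber ξ).map φ)
  map_id W := by ext x; exact congr($((FEt.fiber ξ).map_id W) x)
  map_comp φ ψ := by ext x; exact congr($((FEt.fiber ξ).map_comp φ ψ) x)

/-- It lifts the fibre functor. -/
def fiberFinIso : fiberFin ξ ⋙ FintypeCat.incl ≅ FEt.fiber ξ :=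
  NatIso.ofComponents fun _ => Iso.refl _

instance preGalois : PreGaloisCategory (FEt.Cat X) where
  hasQuotientsByFiniteGroups G _ _ := by
    obtain ⟨G', hg, hf, ⟨e⟩⟩ := Finite.exists_type_univ_nonempty_mulEquiv.{u, 0} G
    haveI : HasColimitsOfShape (SingleObj G') (FEt.Cat X) := by
      haveI := Fintype.ofFinite G'
      infer_instance
    exact Limits.hasColimitsOfShape_of_equivalence e.toSingleObjEquiv.symm
  monoInducesIsoOnDirectSummand i := monoInducesIsoOnDirectSummand i

instance : PreservesFiniteLimits (fiberFin ξ) := by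
  haveI : PreservesFiniteLimits (fiberFin ξ ⋙ FintypeCat.incl) :=
    preservesFiniteLimits_of_natIso (fiberFinIso ξ).symm
  exact ⟨fun J _ _ => preservesLimitsOfShape_of_reflects_of_preserves (fiberFin ξ) FintypeCat.incl⟩

instance [IsAlgClosed Ω] : PreservesFiniteColimits (fiberFin ξ) := by
  haveI : PreservesFiniteColimits (fiberFin ξ ⋙ FintypeCat.incl) :=
    preservesFiniteColimits_of_natIso (fiberFinIso ξ).symm
  exact ⟨fun J _ _ => preservesColimitsOfShape_of_reflects_of_preserves (fiberFin ξ) FintypeCat.incl⟩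

theorem fiberFunctor [IsAlgClosed Ω] [ConnectedSpace X] : PreGaloisCategory.FiberFunctor (fiberFin ξ) where
  preservesQuotientsByFiniteGroups G _ _ := by
    obtain ⟨G', hg, hf, ⟨e⟩⟩ := Finite.exists_type_univ_nonempty_mulEquiv.{u, 0} G
    haveI : PreservesColimitsOfShape (SingleObj G') (fiberFin ξ) := by
      haveI := Fintype.ofFinite G'
      infer_instance
    exact Limits.preservesColimitsOfShape_of_equiv e.toSingleObjEquiv.symm _
  reflectsIsos := ⟨fun φ _ => isIso_of_bijective_at ξ φ <| by
    exact (ConcreteCategory.isIso_iff_bijective ((fiberFin ξ).map φ)).1 inferInstance⟩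

include ξ in
theorem galoisCategory [IsAlgClosed Ω] [ConnectedSpace X] : GaloisCategory (FEt.Cat X) :=
  haveI := preGalois (X := X)
  ⟨⟨fiberFin ξ, ⟨fiberFunctor ξ⟩⟩⟩

end Groth.Agent.FEtGalois
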