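import Mathlib.AlgebraicGeometry.Sites.SmallAffineZariski
import Mathlib.AlgebraicGeometry.RelativeGluing
import Mathlib.AlgebraicGeometry.Morphisms.Affine
import Mathlib.AlgebraicGeometry.Morphisms.QuasiSeparated
import Groth.Prelude.Def_RelSpec

/-!
The coequaliser of two morphisms of schemes affine over a base: glue the spectra of the equalisers.
-/

set_option autoImplicit false
set_option backward.isDefEq.respectTransparency false
set_option linter.style.haveILetI false

universe u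

open CategoryTheory CategoryTheory.Limits AlgebraicGeometry TopologicalSpace Opposite Scheme.AffineZariskiSite

noncomputable section

namespace Groth.Agent.FEtGalois

variable {X Y Z : Scheme.{u}} {π : Z ⟶ X} {ρ : Y ⟶ X} {f g : Y ⟶ Z} (hf : f ≫ π = ρ) (hg : g ≫ π = ρ)

theorem preimage_le_of_comp {T : Scheme.{u}} {t : T ⟶ X} {k : Y ⟶ T} (hk : k ≫ t = ρ) (U : X.Opens) :
    ρ ⁻¹ᵁ U ≤ k ⁻¹ᵁ t ⁻¹ᵁ U := by
  subst hk
  exact le_rfl

/-- The map of sections over the preimages of `U`. -/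
abbrev secMap {k : Y ⟶ Z} (hk : k ≫ π = ρ) (U : X.Opens) : Γ(Z, π ⁻¹ᵁ U) →+* Γ(Y, ρ ⁻¹ᵁ U) :=
  (k.appLE (π ⁻¹ᵁ U) (ρ ⁻¹ᵁ U) (preimage_le_of_comp hk U)).hom

theorem secMap_res {k : Y ⟶ Z} (hk : k ≫ π = ρ) {U V : X.Opens} (h : U ≤ V) (z : Γ(Z, π ⁻¹ᵁ V)) :
    secMap hk U (Z.presheaf.map (homOfLE (π.preimage_mono h)).op z) =
      Y.presheaf.map (homOfLE (ρ.preimage_mono h)).op (secMap hk V z) := by
  simp only [secMap, ← CommRingCat.comp_apply, Scheme.Hom.map_appLE, Scheme.Hom.appLE_map]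

theorem app_comp_secMap {k : Y ⟶ Z} (hk : k ≫ π = ρ) (U : X.Opens) (a : Γ(X, U)) :
    secMap hk U (π.app U a) = ρ.app U a := by
  subst hk
  simp only [secMap, ← CommRingCat.comp_apply]
  rw [Scheme.Hom.app_eq_appLE, Scheme.Hom.appLE_comp_appLE, Scheme.Hom.app_eq_appLE]

/-- The equaliser of sections. -/
def eqRing (U : X.Opens) : Subring Γ(Z, π ⁻¹ᵁ U) :=
  RingHom.eqLocus (secMap hf U) (secMap hg U)

/-- The presheaf of equalisers. -/
def diagram : X.Opensᵒᵖ ⥤ CommRingCat.{u} where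
  obj U := .of (eqRing hf hg U.unop)
  map {V U} i := CommRingCat.ofHom
    (((Z.presheaf.map (homOfLE (π.preimage_mono i.unop.le)).op).hom.comp
      (eqRing hf hg V.unop).subtype).codRestrict (eqRing hf hg U.unop) fun x => by
        change secMap hf _ _ = secMap hg _ _
        rw [RingHom.comp_apply, secMap_res hf i.unop.le, secMap_res hg i.unop.le]
        exact congrArg _ x.2)
  map_id U := by
    refine CommRingCat.hom_ext (RingHom.ext fun x => Subtype.ext ?_)
    change Z.presheaf.map _ x.1 = x.1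
    rw [show (homOfLE _).op = 𝟙 (op (π ⁻¹ᵁ U.unop)) from Subsingleton.elim _ _]
    simp
  map_comp i j := by
    refine CommRingCat.hom_ext (RingHom.ext fun x => Subtype.ext ?_)
    change Z.presheaf.map _ x.1 = Z.presheaf.map _ (Z.presheaf.map _ x.1)
    rw [← CommRingCat.comp_apply, ← Functor.map_comp]
    rfl

/-- The structure map of the presheaf of equalisers. -/
def strMap : X.presheaf ⟶ diagram hf hg where
  app U := CommRingCat.ofHom ((π.app U.unop).hom.codRestrict (eqRing hf hg U.unop) fun a =>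
    (app_comp_secMap hf _ a).trans (app_comp_secMap hg _ a).symm)
  naturality {U V} i := by
    refine CommRingCat.hom_ext (RingHom.ext fun a => Subtype.ext ?_)
    exact congr($(π.naturality i) a)

variable [IsAffineHom π] [IsAffineHom ρ]

theorem coequifibered : ((toOpensFunctor X).op.whiskerLeft (strMap hf hg)).Coequifibered := by
  refine coequifibered_iff_forall_isLocalizationAway.mpr fun U r => ?_
  let : Algebra Γ(Z, π ⁻¹ᵁ U.1) Γ(Z, π ⁻¹ᵁ X.basicOpen r) :=
    (Z.presheaf.map (homOfLE (π.preimage_mono (X.basicOpen_le r))).op).hom.toAlgebra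
  let : Algebra (eqRing hf hg U.1) (eqRing hf hg (X.basicOpen r)) :=
    ((diagram hf hg).map (homOfLE (X.basicOpen_le r)).op).hom.toAlgebra
  have hloc : IsLocalization.Away (π.app U.1 r) Γ(Z, π ⁻¹ᵁ X.basicOpen r) :=
    RelSpec.QCAlg.isQC_pushforward π U.1 U.2 r
  let z₀ : eqRing hf hg U.1 := ((strMap hf hg).app (op U.1)).hom r
  have hz₀ : (z₀ : Γ(Z, π ⁻¹ᵁ U.1)) = π.app U.1 r := rfl
  change IsLocalization.Away z₀ (eqRing hf hg (X.basicOpen r))
  have hmap : ∀ a : eqRing hf hg U.1, ((algebraMap _ (eqRing hf hg (X.basicOpen r)) a : eqRing hf hg _) : Γ(Z, _)) =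
      algebraMap Γ(Z, π ⁻¹ᵁ U.1) Γ(Z, π ⁻¹ᵁ X.basicOpen r) a := fun a => rfl
  have hu : IsUnit (algebraMap Γ(Z, π ⁻¹ᵁ U.1) Γ(Z, π ⁻¹ᵁ X.basicOpen r) (π.app U.1 r)) :=
    IsLocalization.Away.algebraMap_isUnit _
  refine IsLocalization.Away.mk _ ?_ ?_ ?_
  · obtain ⟨v, hv⟩ := hu
    have hvmem : (v : Γ(Z, π ⁻¹ᵁ X.basicOpen r)) ∈ eqRing hf hg (X.basicOpen r) := by
      rw [hv, ← hz₀, ← hmap]; exact Subtype.coe_prop _
    have hinv : ((v⁻¹ : Units _) : Γ(Z, π ⁻¹ᵁ X.basicOpen r)) ∈ eqRing hf hg (X.basicOpen r) := by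
      change secMap hf _ _ = secMap hg _ _
      have h1 : secMap hf (X.basicOpen r) v = secMap hg (X.basicOpen r) v := hvmem
      exact Units.inv_eq_of_mul_eq_one_left (u := Units.map (secMap hf (X.basicOpen r)).toMonoidHom v)
        (a := secMap hg (X.basicOpen r) (v⁻¹ : Units _)) (by
          simp only [Units.coe_map, RingHom.toMonoidHom_eq_coe, MonoidHom.coe_coe]
          rw [h1, ← map_mul, Units.inv_mul, map_one])
    exact isUnit_iff_exists_inv.2 ⟨⟨_, hinv⟩, Subtype.ext (by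
      rw [Subring.coe_mul, hmap, hz₀, ← hv]; exact v.mul_inv)⟩
  · intro s
    obtain ⟨n, w, hw⟩ := IsLocalization.Away.surj (π.app U.1 r) (s : Γ(Z, π ⁻¹ᵁ X.basicOpen r))
    have h1 : Y.presheaf.map (homOfLE (ρ.preimage_mono (X.basicOpen_le r))).op (secMap hf U.1 w) =
        Y.presheaf.map (homOfLE (ρ.preimage_mono (X.basicOpen_le r))).op (secMap hg U.1 w) := by
      rw [← secMap_res hf (X.basicOpen_le r), ← secMap_res hg (X.basicOpen_le r)]
      change secMap hf _ (algebraMap Γ(Z, π ⁻¹ᵁ U.1) Γ(Z, π ⁻¹ᵁ X.basicOpen r) w) = secMap hg _ (algebraMap _ _ w)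
      rw [← hw, map_mul, map_mul, map_pow, map_pow, s.2, ← hz₀, ← hmap]
      rw [show secMap hf (X.basicOpen r) _ = secMap hg (X.basicOpen r) _ from
        (algebraMap _ (eqRing hf hg (X.basicOpen r)) z₀).2]
    let : Algebra Γ(Y, ρ ⁻¹ᵁ U.1) Γ(Y, ρ ⁻¹ᵁ X.basicOpen r) :=
      (Y.presheaf.map (homOfLE (ρ.preimage_mono (X.basicOpen_le r))).op).hom.toAlgebra
    haveI : IsLocalization.Away (ρ.app U.1 r) Γ(Y, ρ ⁻¹ᵁ X.basicOpen r) :=
      RelSpec.QCAlg.isQC_pushforward ρ U.1 U.2 r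
    obtain ⟨m, hm⟩ := IsLocalization.Away.exists_of_eq (x := ρ.app U.1 r) (S := Γ(Y, ρ ⁻¹ᵁ X.basicOpen r)) h1
    have hmem : π.app U.1 r ^ m * w ∈ eqRing hf hg U.1 := by
      change secMap hf _ _ = secMap hg _ _
      rw [map_mul, map_mul, map_pow, map_pow, app_comp_secMap hf, app_comp_secMap hg, hm]
    refine ⟨n + m, ⟨_, hmem⟩, Subtype.ext ?_⟩
    rw [Subring.coe_mul, SubmonoidClass.coe_pow, hmap, hmap, hz₀]
    rw [map_mul, map_pow, ← hw]
    ring
  · intro a b hab
    obtain ⟨n, hn⟩ := IsLocalization.Away.exists_of_eq (x := π.app U.1 r) (S := Γ(Z, π ⁻¹ᵁ X.basicOpen r))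
      (congrArg Subtype.val hab)
    exact ⟨n, Subtype.ext hn⟩

/-- The gluing datum. -/
def glueData := relativeGluingData (coequifibered hf hg)

instance : ((glueData hf hg).functor ⋙ Scheme.forget).IsLocallyDirected :=
  Scheme.Cover.RelativeGluingData.instIsLocallyDirectedI₀CompFunctorForgetOfIsThin ..

/-- The coequaliser. -/
def obj : Scheme.{u} := (glueData hf hg).glued

/-- Its map to the base. -/
def toBase : obj hf hg ⟶ X := (glueData hf hg).toBase

/-- The chart over an affine open. -/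
def chart (U : X.affineOpens) : Spec (.of (eqRing hf hg U.1)) ⟶ obj hf hg :=
  (glueData hf hg).cover.f U

instance (U : X.affineOpens) : IsOpenImmersion (chart hf hg U) := (glueData hf hg).cover.map_prop _

@[reassoc]
theorem chart_toBase (U : X.affineOpens) :
    chart hf hg U ≫ toBase hf hg = Spec.map ((strMap hf hg).app (op U.1)) ≫ U.2.fromSpec :=
  colimit.ι_desc _ _

theorem toBase_preimage (U : X.affineOpens) : toBase hf hg ⁻¹ᵁ U.1 = (chart hf hg U).opensRange := by
  simpa using! (glueData hf hg).toBase_preimage_eq_opensRange_ι U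

/-- The inclusion of the equaliser. -/
abbrev incl (U : X.Opens) : CommRingCat.of (eqRing hf hg U) ⟶ Γ(Z, π ⁻¹ᵁ U) :=
  CommRingCat.ofHom (eqRing hf hg U).subtype

theorem trans_compat {U V : X.AffineZariskiSite} (i : U ⟶ V) :
    Spec.map ((diagram hf hg).map ((toOpensFunctor X).map i).op) ≫ chart hf hg V = chart hf hg U :=
  colimit.w (glueData hf hg).functor i

/-- The projection. -/
def proj : Z ⟶ obj hf hg :=
  Scheme.OpenCover.glueMorphismsOfLocallyDirected
    ((directedCover X).pullback₁ π)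
    (fun U => (pullbackRestrictIsoRestrict π _).hom ≫
      (π ⁻¹ᵁ U.1).toSpecΓ ≫ Spec.map (incl hf hg U.1) ≫ chart hf hg U) fun {U V : X.AffineZariskiSite} i => by
  have : (pullbackRestrictIsoRestrict π U.1).inv ≫
      Scheme.Cover.trans ((directedCover X).pullback₁ π) i ≫
      (pullbackRestrictIsoRestrict π V.1).hom = Z.homOfLE
        (π.preimage_mono (toOpens_mono i.1.1)) := by
    rw [← cancel_mono (Scheme.Opens.ι _)]
    simp +instances [Scheme.Cover.trans, Scheme.Cover.locallyDirectedPullbackCover]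
  rw [← Iso.inv_comp_eq, reassoc_of% this, ← Scheme.Opens.toSpecΓ_SpecMap_presheaf_map_assoc,
    ← trans_compat hf hg i, ← Spec.map_comp_assoc, ← Spec.map_comp_assoc]
  rfl

theorem ι_proj (U : X.affineOpens) :
    (π ⁻¹ᵁ U.1).ι ≫ proj hf hg = (π ⁻¹ᵁ U.1).toSpecΓ ≫ Spec.map (incl hf hg U.1) ≫ chart hf hg U := by
  rw [← cancel_epi (pullbackRestrictIsoRestrict π U.1).hom, ← Category.assoc]
  trans ((directedCover X).pullback₁ π).f U ≫ proj hf hg
  · congr 1; simp; rfl
  delta proj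
  generalize_proofs _ _ _ _ H
  exact Scheme.OpenCover.map_glueMorphismsOfLocallyDirected _ _ H _

@[reassoc]
theorem fromSpec_proj (U : X.affineOpens) :
    (U.2.preimage π).fromSpec ≫ proj hf hg = Spec.map (incl hf hg U.1) ≫ chart hf hg U := by
  rw [← IsAffineOpen.isoSpec_inv_ι, Category.assoc, ι_proj, ← (U.2.preimage π).isoSpec_hom,
    Iso.inv_hom_id_assoc]

omit [IsAffineHom ρ] in
theorem hom_ext_affine {T : Scheme.{u}} {a b : Z ⟶ T}
    (h : ∀ U : X.affineOpens, (U.2.preimage π).fromSpec ≫ a = (U.2.preimage π).fromSpec ≫ b) : a = b := by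
  refine Scheme.Cover.hom_ext (Z.openCoverOfIsOpenCover _
    (.comap (iSup_affineOpens_eq_top X) π.base.1)) _ _ fun U => ?_
  change (π ⁻¹ᵁ U.1).ι ≫ a = (π ⁻¹ᵁ U.1).ι ≫ b
  rw [← (U.2.preimage π).isoSpec_hom_fromSpec, Category.assoc, Category.assoc, h U]

@[reassoc]
theorem proj_toBase : proj hf hg ≫ toBase hf hg = π := by
  refine hom_ext_affine (π := π) fun U => ?_
  rw [fromSpec_proj_assoc, chart_toBase, ← Spec.map_comp_assoc]
  change Spec.map (π.app U.1) ≫ _ = _
  rw [Scheme.Hom.app_eq_appLE, IsAffineOpen.SpecMap_appLE_fromSpec]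

omit [IsAffineHom π] in
theorem secMap_fromSpec {k : Y ⟶ Z} (hk : k ≫ π = ρ) (U : X.affineOpens) [IsAffineHom π] :
    Spec.map (CommRingCat.ofHom (secMap hk U.1)) ≫ (U.2.preimage π).fromSpec = (U.2.preimage ρ).fromSpec ≫ k :=
  IsAffineOpen.SpecMap_appLE_fromSpec _ _ _ _

theorem coequalises : f ≫ proj hf hg = g ≫ proj hf hg := by
  refine hom_ext_affine (π := ρ) fun U => ?_
  rw [← reassoc_of% (secMap_fromSpec hf U), ← reassoc_of% (secMap_fromSpec hg U), fromSpec_proj,
    ← Spec.map_comp_assoc, ← Spec.map_comp_assoc]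
  congr 2
  ext x
  exact x.2

section desc

variable {T : Scheme.{u}} {t : T ⟶ X} [IsAffineHom t] {k : Z ⟶ T} (hk : k ≫ t = π) (hfg : f ≫ k = g ≫ k)

omit [IsAffineHom π] [IsAffineHom ρ] [IsAffineHom t] in
include hfg in
theorem appLE_mem (U : X.Opens) (x : Γ(T, t ⁻¹ᵁ U)) :
    k.appLE (t ⁻¹ᵁ U) (π ⁻¹ᵁ U) (preimage_le_of_comp hk U) x ∈ eqRing hf hg U := by
  change secMap hf _ _ = secMap hg _ _
  simp only [secMap, ← CommRingCat.comp_apply, Scheme.Hom.appLE_comp_appLE]
  simp only [hfg]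

/-- The descended map on sections. -/
def descRing (U : X.Opens) : Γ(T, t ⁻¹ᵁ U) ⟶ CommRingCat.of (eqRing hf hg U) :=
  CommRingCat.ofHom ((k.appLE (t ⁻¹ᵁ U) (π ⁻¹ᵁ U) (preimage_le_of_comp hk U)).hom.codRestrict _
    (appLE_mem hf hg hk hfg U))

/-- The descended morphism. -/
def desc : obj hf hg ⟶ T :=
  colimit.desc (glueData hf hg).functor
    { pt := T
      ι := {
        app := fun U => Spec.map (descRing hf hg hk hfg U.1) ≫ (U.2.preimage t).fromSpec
        naturality := fun U V i => by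
          refine Eq.trans ?_ (Category.comp_id _).symm
          change Spec.map ((diagram hf hg).map ((toOpensFunctor X).map i).op) ≫ _ = _
          rw [← Spec.map_comp_assoc, ← (V.2.preimage t).map_fromSpec (U.2.preimage t)
            (homOfLE (t.preimage_mono (toOpens_mono i.1.1))).op, ← Spec.map_comp_assoc]
          congr 2
          ext x
          refine Subtype.ext ?_
          change Z.presheaf.map _ (k.appLE _ _ _ x) = k.appLE _ _ _ (T.presheaf.map _ x)
          simp only [← CommRingCat.comp_apply, Scheme.Hom.map_appLE, Scheme.Hom.appLE_map] } }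

@[reassoc]
theorem chart_desc (U : X.affineOpens) :
    chart hf hg U ≫ desc hf hg hk hfg = Spec.map (descRing hf hg hk hfg U.1) ≫ (U.2.preimage t).fromSpec :=
  colimit.ι_desc _ _

@[reassoc]
theorem proj_desc : proj hf hg ≫ desc hf hg hk hfg = k := by
  refine hom_ext_affine (π := π) fun U => ?_
  rw [fromSpec_proj_assoc, chart_desc, ← Spec.map_comp_assoc]
  exact IsAffineOpen.SpecMap_appLE_fromSpec _ _ _ _

theorem desc_toBase : desc hf hg hk hfg ≫ t = toBase hf hg := by
  refine Scheme.Cover.hom_ext (glueData hf hg).cover _ _ fun (U : X.affineOpens) => ?_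
  change chart hf hg U ≫ _ = chart hf hg U ≫ toBase hf hg
  rw [chart_desc_assoc, chart_toBase, ← U.2.SpecMap_appLE_fromSpec t (U.2.preimage t) le_rfl,
    ← Spec.map_comp_assoc, ← Scheme.Hom.app_eq_appLE]
  congr 2
  ext x
  change k.appLE _ _ _ (t.app _ x) = π.app _ x
  subst hk
  simp only [← CommRingCat.comp_apply, Scheme.Hom.app_eq_appLE, Scheme.Hom.appLE_comp_appLE]

theorem desc_unique (m : obj hf hg ⟶ T) (hm : m ≫ t = toBase hf hg) (hm' : proj hf hg ≫ m = k) :
    m = desc hf hg hk hfg := by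
  refine Scheme.Cover.hom_ext (glueData hf hg).cover _ _ fun (U : X.affineOpens) => ?_
  change chart hf hg U ≫ m = chart hf hg U ≫ _
  have hr : Set.range (chart hf hg U ≫ m) ⊆ Set.range (U.2.preimage t).fromSpec := by
    rw [IsAffineOpen.range_fromSpec]
    rintro _ ⟨x, rfl⟩
    change (chart hf hg U ≫ m ≫ t) x ∈ (U.1 : Set X)
    rw [hm]
    exact (toBase_preimage hf hg U).ge ⟨x, rfl⟩
  obtain ⟨l, hl⟩ : ∃ l, l ≫ (U.2.preimage t).fromSpec = chart hf hg U ≫ m :=
    ⟨_, IsOpenImmersion.lift_fac _ _ hr⟩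
  rw [chart_desc, ← hl]
  congr 1
  have h1 : Spec.map (incl hf hg U.1) ≫ l =
      Spec.map (k.appLE (t ⁻¹ᵁ U.1) (π ⁻¹ᵁ U.1) (preimage_le_of_comp hk U.1)) := by
    rw [← cancel_mono (U.2.preimage t).fromSpec, Category.assoc, hl, IsAffineOpen.SpecMap_appLE_fromSpec,
      ← fromSpec_proj_assoc, hm']
  rw [← Spec.map_preimage l] at h1 ⊢
  rw [← Spec.map_comp] at h1
  congr 1
  ext x
  exact congr($(Spec.map_injective h1) x)

end desc

end Groth.Agent.FEtGalois
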