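import Groth.Agent.FEtGalois.FullFaith
import Groth.Agent.FEtGalois.Normal
import Mathlib.AlgebraicGeometry.Morphisms.Preimmersion
import Mathlib.AlgebraicGeometry.FunctionField

/-!
Restriction of finite etale covers of a normal integral scheme to dense parts.
-/

set_option autoImplicit false
set_option backward.isDefEq.respectTransparency false
set_option linter.style.haveILetI false

universe u

open CategoryTheory CategoryTheory.Limits AlgebraicGeometry TopologicalSpace

namespace Groth.Agent.FEtGalois

variable {X' X : Scheme.{u}} [IsIntegral X] (hX : Pi1.IsNormalScheme X) (i : X' ⟶ X)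

include hX in
theorem clopenCorresp_of_components
    (h : ∀ (P : FEt.Cat X) (Z : Set P.left), Z ∈ irreducibleComponents P.left →
      _root_.IsPreconnected (pullback.fst P.hom i ⁻¹' Z) ∧ (pullback.fst P.hom i ⁻¹' Z).Nonempty) :
    ClopenCorresp i := by
  refine ⟨fun P C hC he => ?_, fun P C' hC' => ?_⟩
  · by_contra hne
    obtain ⟨x, hx⟩ := Set.nonempty_iff_ne_empty.2 hne
    obtain ⟨z, hz⟩ := (h P _ (irreducibleComponent_mem_irreducibleComponents x)).2
    have hsub : irreducibleComponent x ⊆ C :=
      (isIrreducible_irreducibleComponent.isPreirreducible.isPreconnected).subset_isClopen hC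
        ⟨x, mem_irreducibleComponent, hx⟩
    exact Set.notMem_empty z (he ▸ hsub hz)
  · let S := {Z ∈ irreducibleComponents P.left | (pullback.fst P.hom i ⁻¹' Z ∩ C').Nonempty}
    have hfin : S.Finite := (finite_irreducibleComponents (X := X) (Y := P.left) P.hom).subset fun Z hZ => hZ.1
    refine ⟨⋃₀ S, ⟨?_, ?_⟩, ?_⟩
    · exact Set.sUnion_eq_biUnion ▸ hfin.isClosed_biUnion fun Z hZ => (isClopen_component (Y := P.left) hX P.hom hZ.1).1
    · exact isOpen_sUnion fun Z hZ => (isClopen_component (Y := P.left) hX P.hom hZ.1).2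
    · ext x
      constructor
      · rintro ⟨Z, hZ, hxZ⟩
        exact ((h P Z hZ.1).1.subset_isClopen hC' hZ.2) hxZ
      · intro hx
        exact ⟨irreducibleComponent (pullback.fst P.hom i x),
          ⟨irreducibleComponent_mem_irreducibleComponents _, x, mem_irreducibleComponent, hx⟩,
          mem_irreducibleComponent⟩

variable {Y : Scheme.{u}} (π : Y ⟶ X) [IsFinite π] [Etale π] {Z : Set Y} (hZ : Z ∈ irreducibleComponents Y)

omit [IsFinite π] in
include hZ in
theorem component_opens (U : X.Opens) (hU : (U : Set X).Nonempty) :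
    _root_.IsPreconnected (pullback.fst π U.ι ⁻¹' Z) ∧ (pullback.fst π U.ι ⁻¹' Z).Nonempty := by
  have hr : Set.range (pullback.fst π U.ι) = π ⁻¹' (U : Set X) := by
    rw [Scheme.Pullback.range_fst, Scheme.Opens.range_ι]
  constructor
  · rw [← (pullback.fst π U.ι).isEmbedding.isInducing.isPreconnected_image, Set.image_preimage_eq_inter_range, hr]
    refine IsPreirreducible.isPreconnected ?_
    have hV : IsOpen (π ⁻¹' (U : Set X)) := U.2.preimage π.continuous
    rintro u v hu hv ⟨a, ⟨haZ, haV⟩, hau⟩ ⟨b, ⟨hbZ, hbV⟩, hbv⟩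
    obtain ⟨c, hc, hcu, hcv⟩ := hZ.1.isPreirreducible (u ∩ π ⁻¹' (U : Set X)) (v ∩ π ⁻¹' (U : Set X))
      (hu.inter hV) (hv.inter hV) ⟨a, haZ, hau, haV⟩ ⟨b, hbZ, hbv, hbV⟩
    exact ⟨c, ⟨hc, hcu.2⟩, hcu.1, hcv.1⟩
  · obtain ⟨ζ, hζ⟩ := QuasiSober.sober hZ.1 (isClosed_of_mem_irreducibleComponents Z hZ)
    obtain ⟨x, hx⟩ := hU
    obtain ⟨z, hz⟩ : ζ ∈ Set.range (pullback.fst π U.ι) := by
      rw [hr, Set.mem_preimage, map_genericPoint_component π hZ hζ]
      exact (genericPoint_specializes x).mem_open U.2 hx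
    exact ⟨z, by rw [Set.mem_preimage, hz]; exact hζ.mem⟩

include hZ in
theorem component_genericPoint :
    _root_.IsPreconnected (pullback.fst π (X.fromSpecStalk (genericPoint X)) ⁻¹' Z) ∧
      (pullback.fst π (X.fromSpecStalk (genericPoint X)) ⁻¹' Z).Nonempty := by
  have hr : Set.range (pullback.fst π (X.fromSpecStalk (genericPoint X))) = π ⁻¹' {genericPoint X} := by
    rw [Scheme.Pullback.range_fst, Scheme.range_fromSpecStalk]
    congr 1
    ext x
    exact ⟨fun hx => (hx.antisymm (genericPoint_specializes x)).eq, fun hx => hx ▸ specializes_rfl⟩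
  obtain ⟨ζ, hζ⟩ := QuasiSober.sober hZ.1 (isClosed_of_mem_irreducibleComponents Z hZ)
  constructor
  · rw [← (pullback.fst π (X.fromSpecStalk (genericPoint X))).isEmbedding.isInducing.isPreconnected_image,
      Set.image_preimage_eq_inter_range, hr]
    refine Set.Subsingleton.isPreconnected fun a ha b hb => ?_
    have heq : ∀ y ∈ Z ∩ π ⁻¹' {genericPoint X}, y = ζ := by
      intro y hy
      haveI : DiscreteTopology ↥(π ⁻¹' {genericPoint X}) :=
        isDiscrete_iff_discreteTopology.1 (π.isDiscrete_preimage_singleton _)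
      have hs : (⟨ζ, map_genericPoint_component π hZ hζ⟩ : π ⁻¹' {genericPoint X}) ⤳ ⟨y, hy.2⟩ :=
        (subtype_specializes_iff _ _).2 (hζ.specializes hy.1)
      exact (congrArg Subtype.val hs.eq).symm
    rw [heq a ha, heq b hb]
  · obtain ⟨z, hz⟩ : ζ ∈ Set.range (pullback.fst π (X.fromSpecStalk (genericPoint X))) := by
      rw [hr]; exact map_genericPoint_component π hZ hζ
    exact ⟨z, by rw [Set.mem_preimage, hz]; exact hζ.mem⟩

omit hZ

include hX in
theorem fullyFaithful_opens (U : X.Opens) (hU : (U : Set X).Nonempty) :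
    (FEt.restrict U.ι).Full ∧ (FEt.restrict U.ι).Faithful := by
  have h : ClopenCorresp U.ι :=
    clopenCorresp_of_components hX U.ι fun P Z hZ => component_opens (X := X) (Y := P.left) P.hom hZ U hU
  exact ⟨full_of_clopen _ h, faithful_of_clopen _ h⟩

include hX in
theorem fullyFaithful_genericPoint :
    (FEt.restrict (X.fromSpecStalk (genericPoint X))).Full ∧
      (FEt.restrict (X.fromSpecStalk (genericPoint X))).Faithful := by
  have h : ClopenCorresp (X.fromSpecStalk (genericPoint X)) :=
    clopenCorresp_of_components hX _ fun P Z hZ => component_genericPoint (X := X) (Y := P.left) P.hom hZ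
  exact ⟨full_of_clopen _ h, faithful_of_clopen _ h⟩

end Groth.Agent.FEtGalois
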