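import Groth.Agent.FEtGalois.Normal
import Groth.Agent.FinLocFree.Push
import Mathlib.AlgebraicGeometry.Normalization
import Mathlib.AlgebraicGeometry.FunctionField
import Mathlib.AlgebraicGeometry.Morphisms.Finite
import Mathlib.RingTheory.Localization.BaseChange
import Mathlib.RingTheory.Localization.Integral

/-!
# The normalization of an integral scheme in a finite extension of its function field
-/

set_option autoImplicit false
set_option backward.isDefEq.respectTransparency false
set_option linter.style.haveILetI false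

universe u

open CategoryTheory CategoryTheory.Limits AlgebraicGeometry TopologicalSpace Opposite

namespace Groth.Agent.FEtGalois

variable {X : Scheme.{u}}

/-- Precomposition with an isomorphism does not change the normalization. -/
theorem isIso_from_of_iso {P Q Y : Scheme.{u}} (a : P ≅ Q) (g : Q ⟶ Y) [QuasiCompact g] [QuasiSeparated g]
    [IsIso g.fromNormalization] : IsIso (a.hom ≫ g).fromNormalization := by
  let h := a.hom ≫ g
  have H1 : h = (a.hom ≫ g.toNormalization) ≫ g.fromNormalization := by simp [h]
  have H2 : g = (a.inv ≫ h.toNormalization) ≫ h.fromNormalization := by simp [h]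
  let D := h.normalizationDesc _ _ H1
  let E := g.normalizationDesc _ _ H2
  haveI : IsIso D := ⟨E, Scheme.Hom.normalization.hom_ext h _ _ h.fromNormalization
      (by simp [D, E]) (by simp [D, E]) (by simp), Scheme.Hom.normalization.hom_ext g _ _ g.fromNormalization
      (by simp [D, E]) (by simp [D, E]) (by simp)⟩
  rw [← h.normalizationDesc_comp _ _ H1]
  exact IsIso.comp_isIso' ‹_› ‹_›

/-- A factorisation through an integral morphism in which the first factor is normal computes the
normalization. -/
theorem isIso_desc {S Y : Scheme.{u}} (f : S ⟶ X) [QuasiCompact f] [QuasiSeparated f] (j : S ⟶ Y)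
    [QuasiCompact j] [QuasiSeparated j] [IsIso j.fromNormalization] (π : Y ⟶ X) [IsIntegralHom π]
    (H : f = j ≫ π) : IsIso (f.normalizationDesc j π H) := by
  let D := f.normalizationDesc j π H
  let E := j.normalizationDesc f.toNormalization D (f.toNormalization_normalizationDesc j π H).symm
  have hE : E ≫ D = j.fromNormalization := j.normalizationDesc_comp _ _ _
  have hD : D ≫ π = f.fromNormalization := f.normalizationDesc_comp _ _ _
  have hs : (inv j.fromNormalization ≫ E) ≫ D = 𝟙 Y := by rw [Category.assoc, hE, IsIso.inv_hom_id]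
  refine ⟨inv j.fromNormalization ≫ E, Scheme.Hom.normalization.hom_ext f _ _ f.fromNormalization ?_ ?_
    (Category.id_comp _), hs⟩
  · rw [Category.comp_id, ← Category.assoc, Scheme.Hom.toNormalization_normalizationDesc]
    have h1 : j.toNormalization = j ≫ inv j.fromNormalization := by
      rw [IsIso.eq_comp_inv, Scheme.Hom.toNormalization_fromNormalization]
    have h2 : j.toNormalization ≫ E = f.toNormalization := j.toNormalization_normalizationDesc _ _ _
    rw [h1, Category.assoc] at h2
    exact h2
  · calc (D ≫ inv j.fromNormalization ≫ E) ≫ f.fromNormalization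
        = D ≫ ((inv j.fromNormalization ≫ E) ≫ D) ≫ π := by rw [← hD]; simp only [Category.assoc]
      _ = f.fromNormalization := by rw [hs, Category.id_comp, hD]

variable [IsIntegral X]

/-- The point of a finite extension of the function field. -/
noncomputable abbrev fieldPt (L : Type u) [Field L] [Algebra X.functionField L] : Spec (CommRingCat.of L) ⟶ X :=
  Spec.map (CommRingCat.ofHom (algebraMap X.functionField L)) ≫ X.fromSpecStalk (genericPoint X)

variable (L : Type u) [Field L] [Algebra X.functionField L] [FiniteDimensional X.functionField L]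
  [QuasiCompact (fieldPt (X := X) L)] [QuasiSeparated (fieldPt (X := X) L)]

theorem isFinite_specMap_alg : IsFinite (Spec.map (CommRingCat.ofHom (algebraMap X.functionField L))) :=
  (IsFinite.SpecMap_iff _).2 (RingHom.finite_algebraMap.2 inferInstance)

/-- The structure of the sections of the field point over a non-empty affine open. -/
theorem exists_setup {U : X.Opens} (hU : IsAffineOpen U) (hηU : genericPoint X ∈ U) :
    ∃ (a : Spec (CommRingCat.of L) ≅ Spec Γ(Spec (CommRingCat.of L), fieldPt (X := X) L ⁻¹ᵁ U))
      (β : X.functionField →+* Γ(Spec (CommRingCat.of L), fieldPt (X := X) L ⁻¹ᵁ U)),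
      a.hom ≫ Spec.map (CommRingCat.ofHom β) = Spec.map (CommRingCat.ofHom (algebraMap X.functionField L)) ∧
      β.comp (X.presheaf.germ U _ hηU).hom = ((fieldPt (X := X) L).app U).hom ∧
      β.Finite ∧
      ∃ _ : IsIso ((fieldPt (X := X) L) ⁻¹ᵁ U).ι,
        a.hom = inv ((fieldPt (X := X) L) ⁻¹ᵁ U).ι ≫ ((fieldPt (X := X) L) ⁻¹ᵁ U).toSpecΓ := by
  let f := fieldPt (X := X) L
  have htop : f ⁻¹ᵁ U = ⊤ := top_le_iff.1 fun x _ => by
    show X.fromSpecStalk (genericPoint X) (Spec.map (CommRingCat.ofHom (algebraMap X.functionField L)) x) ∈ U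
    have h := Set.mem_range_self (f := X.fromSpecStalk (genericPoint X))
      (Spec.map (CommRingCat.ofHom (algebraMap X.functionField L)) x)
    rw [Scheme.range_fromSpecStalk] at h
    rw [(h.antisymm (genericPoint_specializes _)).eq]
    exact hηU
  haveI haff : IsAffine ((f ⁻¹ᵁ U) : Scheme.{u}) := by
    show IsAffineOpen (f ⁻¹ᵁ U)
    rw [htop]; exact isAffineOpen_top _
  haveI : IsIso (f ⁻¹ᵁ U).ι := by
    haveI : Surjective (f ⁻¹ᵁ U).ι := ⟨fun x => ⟨⟨x, htop ▸ trivial⟩, rfl⟩⟩
    exact IsOpenImmersion.isIso _
  haveI : IsIso (f ⁻¹ᵁ U).toSpecΓ := by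
    delta Scheme.Opens.toSpecΓ; infer_instance
  let a : Spec (CommRingCat.of L) ≅ Spec Γ(Spec (CommRingCat.of L), f ⁻¹ᵁ U) :=
    (asIso (f ⁻¹ᵁ U).ι).symm ≪≫ asIso (f ⁻¹ᵁ U).toSpecΓ
  let b := Spec.preimage (a.inv ≫ Spec.map (CommRingCat.ofHom (algebraMap X.functionField L)))
  have hb : Spec.map b = a.inv ≫ Spec.map (CommRingCat.ofHom (algebraMap X.functionField L)) := Spec.map_preimage _
  refine ⟨a, b.hom, ?_, ?_, ?_, inferInstance, rfl⟩
  · rw [CommRingCat.ofHom_hom, hb, Iso.hom_inv_id_assoc]
  · have h : X.presheaf.germ U _ hηU ≫ b = f.app U := by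
      refine Spec.map_injective ((cancel_mono hU.fromSpec).1 ?_)
      rw [Spec.map_comp, hb]
      simp only [Category.assoc]
      have h1 : Spec.map (X.presheaf.germ U _ hηU) ≫ hU.fromSpec = X.fromSpecStalk (genericPoint X) :=
        hU.fromSpecStalk_eq_fromSpecStalk hηU
      rw [h1]
      show a.inv ≫ f = _
      rw [← cancel_epi (asIso (f ⁻¹ᵁ U).toSpecΓ).hom]
      simp only [a, Iso.trans_inv, Iso.symm_inv, asIso_hom, asIso_inv, Category.assoc, IsIso.hom_inv_id_assoc]
      simp [f, hU]
    exact congrArg CommRingCat.Hom.hom h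
  · haveI := isFinite_specMap_alg (X := X) L
    refine (IsFinite.SpecMap_iff b).1 ?_
    rw [hb]; infer_instance

omit [IsIntegral X] in
/-- The chart of the normalization. -/
theorem isPullback_chart {S : Scheme.{u}} (f : S ⟶ X) [QuasiCompact f] [QuasiSeparated f] (U : X.affineOpens) :
    IsPullback (f.normalizationOpenCover.f U) (Spec.map (f.normalizationDiagramMap.app (op U.1)))
      f.fromNormalization U.2.fromSpec :=
  (IsOpenImmersion.isPullback (Spec.map (f.normalizationDiagramMap.app (op U.1))) (f.normalizationOpenCover.f U)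
    U.2.fromSpec f.fromNormalization (f.ι_fromNormalization U)
    ((congrArg (f.fromNormalization ⁻¹ᵁ ·) U.2.opensRange_fromSpec).trans (f.fromNormalization_preimage U))).flip

/-- The generic fibre of the normalization is the field. -/
theorem isPullback_toNormalization :
    IsPullback (fieldPt (X := X) L).toNormalization (Spec.map (CommRingCat.ofHom (algebraMap X.functionField L)))
      (fieldPt (X := X) L).fromNormalization (X.fromSpecStalk (genericPoint X)) := by
  let f := fieldPt (X := X) L
  obtain ⟨U, hU, hηU, -⟩ := exists_isAffineOpen_mem_and_subset (X := X) (x := genericPoint X) (U := ⊤) (Set.mem_univ _)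
  obtain ⟨a, β, hβ, hβU, hfin, hι, ha⟩ := exists_setup L hU hηU
  haveI : Nonempty U := ⟨⟨_, hηU⟩⟩
  letI : Algebra Γ(X, U) Γ(Spec (CommRingCat.of L), f ⁻¹ᵁ U) := (f.app U).hom.toAlgebra
  letI : Algebra X.functionField Γ(Spec (CommRingCat.of L), f ⁻¹ᵁ U) := β.toAlgebra
  haveI : IsScalarTower Γ(X, U) X.functionField Γ(Spec (CommRingCat.of L), f ⁻¹ᵁ U) :=
    .of_algebraMap_eq fun r => (RingHom.congr_fun hβU r).symm
  haveI := functionField_isFractionRing_of_isAffineOpen X U hU
  haveI : Algebra.IsIntegral X.functionField Γ(Spec (CommRingCat.of L), f ⁻¹ᵁ U) :=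
    algebraMap_isIntegral_iff.mp hfin.to_isIntegral
  let A := Γ(X, U)
  let T := Γ(Spec (CommRingCat.of L), f ⁻¹ᵁ U)
  let B := integralClosure A T
  haveI : IsLocalization (Algebra.algebraMapSubmonoid B (nonZeroDivisors A)) T := {
    map_units := by
      rintro ⟨_, m, hm, rfl⟩
      show IsUnit (algebraMap A T m)
      rw [IsScalarTower.algebraMap_apply A X.functionField T]
      exact (IsLocalization.map_units X.functionField (⟨m, hm⟩ : nonZeroDivisors A)).map _
    surj := fun z => by
      obtain ⟨m, hm⟩ := IsIntegral.exists_multiple_integral_of_isLocalization (nonZeroDivisors A)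
        (Rₘ := X.functionField) z (Algebra.IsIntegral.isIntegral z)
      refine ⟨⟨⟨_, hm⟩, ⟨_, m.1, m.2, rfl⟩⟩, ?_⟩
      show z * algebraMap A T m.1 = m • z
      rw [Submonoid.smul_def, Algebra.smul_def, mul_comm]
    exists_of_eq := fun {x y} h => ⟨1, by rw [Subtype.ext (h : (x : T) = y)]⟩ }
  haveI : Algebra.IsPushout A X.functionField B T := (Algebra.isPushout_of_isLocalization (nonZeroDivisors A) X.functionField B T).symm
  have h1 := (isPullback_SpecMap_of_isPushout _ _ _ _ (CommRingCat.isPushout_of_isPushout A X.functionField B T)).flip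
  have h2 := h1.paste_horiz (isPullback_chart f ⟨U, hU⟩)
  refine h2.of_iso a.symm (Iso.refl _) (Iso.refl _) (Iso.refl _) ?_ ?_ (by simp; rfl) ?_
  · simp only [Iso.symm_hom, Iso.refl_hom, Category.comp_id]
    rw [← cancel_epi a.hom, Iso.hom_inv_id_assoc, ha, Category.assoc]
    exact ((IsIso.inv_comp_eq _).2 (f.ι_toNormalization ⟨U, hU⟩).symm)
  · simp only [Iso.symm_hom, Iso.refl_hom, Category.comp_id]
    rw [← hβ, Iso.inv_hom_id_assoc]
    rfl
  · simp only [Iso.refl_hom, Category.comp_id, Category.id_comp]
    exact hU.fromSpecStalk_eq_fromSpecStalk hηU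

omit [FiniteDimensional X.functionField L] in
/-- A normal scheme is its own normalization in the function field. -/
theorem isIso_fromNormalization_of_bijective [FiniteDimensional X.functionField L] (hX : Pi1.IsNormalScheme X)
    (hL : Function.Bijective (algebraMap X.functionField L)) : IsIso (fieldPt (X := X) L).fromNormalization := by
  let f := fieldPt (X := X) L
  have key : ∀ x : X, ∃ U : X.Opens, x ∈ U ∧ IsIso (f.fromNormalization ∣_ U) := by
    intro x
    obtain ⟨U, hU, hxU, -⟩ := exists_isAffineOpen_mem_and_subset (X := X) (x := x) (U := ⊤) (Set.mem_univ _)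
    refine ⟨U, hxU, ?_⟩
    have hηU : genericPoint X ∈ U := (genericPoint_specializes x).mem_open U.2 hxU
    haveI : Nonempty U := ⟨⟨_, hηU⟩⟩
    obtain ⟨a, β, hβ, hβU, -, -, -⟩ := exists_setup L hU hηU
    letI : Algebra Γ(X, U) Γ(Spec (CommRingCat.of L), f ⁻¹ᵁ U) := (f.app U).hom.toAlgebra
    haveI := functionField_isFractionRing_of_isAffineOpen X U hU
    haveI := isIntegrallyClosed_app hX hU
    haveI hiso : IsIso (Spec.map (CommRingCat.ofHom β)) := by
      haveI : IsIso (CommRingCat.ofHom (algebraMap X.functionField L)) := (ConcreteCategory.isIso_iff_bijective _).2 hL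
      rw [← a.inv_hom_id_assoc (Spec.map (CommRingCat.ofHom β)), hβ]
      infer_instance
    have hbij : Function.Bijective β := by
      exact isIso_SpecMap_iff.1 hiso
    have hmap : ∀ r, algebraMap Γ(X, U) Γ(Spec (CommRingCat.of L), f ⁻¹ᵁ U) r = β (algebraMap Γ(X, U) X.functionField r) :=
      fun r => (RingHom.congr_fun hβU r).symm
    have hφ : Function.Bijective (algebraMap Γ(X, U) (integralClosure Γ(X, U) Γ(Spec (CommRingCat.of L), f ⁻¹ᵁ U))) := by
      refine ⟨fun r s h => ?_, fun z => ?_⟩
      · have h' := congrArg Subtype.val h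
        simp only [Subalgebra.coe_algebraMap, hmap] at h'
        exact IsFractionRing.injective _ X.functionField (hbij.1 h')
      · obtain ⟨k, hk⟩ := hbij.2 z.1
        let e : X.functionField →ₐ[Γ(X, U)] Γ(Spec (CommRingCat.of L), f ⁻¹ᵁ U) := ⟨β, fun r => (hmap r).symm⟩
        have hint : IsIntegral Γ(X, U) k := (isIntegral_algHom_iff e hbij.1).1 (by
          show IsIntegral Γ(X, U) (β k); rw [hk]; exact z.2)
        obtain ⟨r, rfl⟩ := IsIntegrallyClosed.isIntegral_iff.mp hint
        exact ⟨r, Subtype.ext ((hmap r).trans hk)⟩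
    haveI : IsIso (CommRingCat.ofHom (algebraMap Γ(X, U)
        (integralClosure Γ(X, U) Γ(Spec (CommRingCat.of L), f ⁻¹ᵁ U)))) := (ConcreteCategory.isIso_iff_bijective _).2 hφ
    haveI : IsIso (Spec.map (f.fromNormalization.app U)) := by
      rw [f.fromNormalization_app hU]; infer_instance
    exact FinLocFree.restrict_of_SpecMap_app (MorphismProperty.isomorphisms Scheme) f.fromNormalization hU
      (MorphismProperty.isomorphisms.infer_property _)
  choose U hxU hU using key
  exact (IsZariskiLocalAtTarget.iff_of_iSup_eq_top (P := MorphismProperty.isomorphisms Scheme.{u}) U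
    (top_le_iff.1 fun x _ => Opens.mem_iSup.2 ⟨x, hxU x⟩)).2 hU

omit [IsIntegral X] in
theorem quasiCompact_fromSpec_field {K : Type u} [Field K] {S : Scheme.{u}} (g : Spec (CommRingCat.of K) ⟶ S) :
    QuasiCompact g :=
  ⟨fun _ _ _ => (Set.toFinite _).isCompact⟩

omit [IsIntegral X] in
/-- Etale-local schemes over a normal scheme are their own normalization in the generic fibre. -/
theorem isIso_fromNormalization_fibre [IsIntegral X] (hX : Pi1.IsNormalScheme X) {Y : Scheme.{u}} (π : Y ⟶ X) [Smooth π]
    [QuasiCompact (X.fromSpecStalk (genericPoint X))] [QuasiSeparated (X.fromSpecStalk (genericPoint X))] :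
    IsIso (pullback.snd (X.fromSpecStalk (genericPoint X)) π).fromNormalization := by
  haveI : IsIso (X.fromSpecStalk (genericPoint X)).fromNormalization := by
    haveI : QuasiCompact (fieldPt (X := X) X.functionField) := quasiCompact_fromSpec_field _
    haveI : QuasiSeparated (fieldPt (X := X) X.functionField) := inferInstance
    have h := isIso_fromNormalization_of_bijective X.functionField hX Function.bijective_id
    have he : fieldPt (X := X) X.functionField = X.fromSpecStalk (genericPoint X) := by
      simp [fieldPt, Scheme.functionField]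
    convert! h using 2 <;> exact he.symm
  rw [← Scheme.Hom.normalizationPullback_snd]
  infer_instance

end Groth.Agent.FEtGalois
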