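import Groth.Agent.FEtGalois.Glue
import Groth.Agent.FEtGalois.AlgEq
import Mathlib.AlgebraicGeometry.Morphisms.Finite
import Mathlib.AlgebraicGeometry.Morphisms.Etale

/-!
The coequaliser of finite etale schemes is finite etale; its geometric points.
-/

set_option autoImplicit false
set_option backward.isDefEq.respectTransparency false
set_option linter.style.haveILetI false

universe u

open CategoryTheory CategoryTheory.Limits AlgebraicGeometry TopologicalSpace Opposite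

noncomputable section

namespace Groth.Agent.FEtGalois

section chartPoints

variable {X : Scheme.{u}} {Ω : Type u} [Field Ω]

theorem exists_chart_point (ξ : Spec (.of Ω) ⟶ X) :
    ∃ (U : X.affineOpens) (a : Γ(X, U.1) ⟶ CommRingCat.of Ω), ξ = Spec.map a ≫ U.2.fromSpec := by
  obtain ⟨U, hU, hxU, -⟩ := exists_isAffineOpen_mem_and_subset (X := X) (x := ξ default)
    (U := ⊤) (Set.mem_univ _)
  have hr : Set.range ξ ⊆ Set.range hU.fromSpec := by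
    rw [IsAffineOpen.range_fromSpec]
    rintro _ ⟨p, rfl⟩
    rw [Subsingleton.elim p default]
    exact hxU
  refine ⟨⟨U, hU⟩, Spec.preimage (IsOpenImmersion.lift hU.fromSpec ξ hr), ?_⟩
  rw [Spec.map_preimage, IsOpenImmersion.lift_fac]

variable {Z : Scheme.{u}} (π : Z ⟶ X) [IsAffineHom π] (U : X.affineOpens) (a : Γ(X, U.1) ⟶ CommRingCat.of Ω)

/-- The point given by a homomorphism on sections. -/
abbrev ptOf (σ : Γ(Z, π ⁻¹ᵁ U.1) ⟶ CommRingCat.of Ω) : Spec (.of Ω) ⟶ Z :=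
  Spec.map σ ≫ (U.2.preimage π).fromSpec

theorem ptOf_injective {σ σ' : Γ(Z, π ⁻¹ᵁ U.1) ⟶ CommRingCat.of Ω} (h : ptOf π U σ = ptOf π U σ') : σ = σ' :=
  Spec.map_injective ((cancel_mono _).1 h)

theorem ptOf_comp (σ : Γ(Z, π ⁻¹ᵁ U.1) ⟶ CommRingCat.of Ω) :
    ptOf π U σ ≫ π = Spec.map (π.app U.1 ≫ σ) ≫ U.2.fromSpec := by
  rw [Spec.map_comp, Category.assoc, Category.assoc, Scheme.Hom.app_eq_appLE,
    IsAffineOpen.SpecMap_appLE_fromSpec]

theorem exists_ptOf {s : Spec (.of Ω) ⟶ Z} (hs : s ≫ π = Spec.map a ≫ U.2.fromSpec) :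
    ∃ σ, ptOf π U σ = s ∧ π.app U.1 ≫ σ = a := by
  have hr : Set.range s ⊆ Set.range (U.2.preimage π).fromSpec := by
    rw [IsAffineOpen.range_fromSpec]
    rintro _ ⟨p, rfl⟩
    change (s ≫ π) p ∈ (U.1 : Set X)
    rw [hs, ← IsAffineOpen.range_fromSpec U.2]
    exact Set.mem_range_self _
  obtain ⟨l, hl⟩ : ∃ l, l ≫ (U.2.preimage π).fromSpec = s := ⟨_, IsOpenImmersion.lift_fac _ _ hr⟩
  refine ⟨Spec.preimage l, by rw [ptOf, Spec.map_preimage, hl], ?_⟩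
  have h := ptOf_comp π U (Spec.preimage l)
  rw [ptOf, Spec.map_preimage, hl, hs] at h
  exact (Spec.map_injective ((cancel_mono _).1 h)).symm

end chartPoints

variable {X Y Z : Scheme.{u}} {π : Z ⟶ X} {ρ : Y ⟶ X} {f g : Y ⟶ Z} (hf : f ≫ π = ρ) (hg : g ≫ π = ρ)
  [IsFinite π] [Etale π] [IsFinite ρ] [Etale ρ]

/-- The maps on sections as algebra maps. -/
def secAlgHom {k : Y ⟶ Z} (hk : k ≫ π = ρ) (U : X.Opens) :
    letI := (π.app U).hom.toAlgebra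
    letI := (ρ.app U).hom.toAlgebra
    Γ(Z, π ⁻¹ᵁ U) →ₐ[Γ(X, U)] Γ(Y, ρ ⁻¹ᵁ U) :=
  letI := (π.app U).hom.toAlgebra
  letI := (ρ.app U).hom.toAlgebra
  ⟨secMap hk U, app_comp_secMap hk U⟩

omit [IsFinite π] [Etale π] [IsFinite ρ] [Etale ρ] in
theorem secAlgHom_apply {k : Y ⟶ Z} (hk : k ≫ π = ρ) (U : X.Opens) (z : Γ(Z, π ⁻¹ᵁ U)) :
    secAlgHom hk U z = secMap hk U z := rfl

omit [IsFinite π] in
theorem algebraEtale_app [IsAffineHom π] (U : X.affineOpens) :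
    letI := (π.app U.1).hom.toAlgebra
    Algebra.Etale Γ(X, U.1) Γ(Z, π ⁻¹ᵁ U.1) := by
  letI := (π.app U.1).hom.toAlgebra
  have h := HasRingHomProperty.appLE @Etale π inferInstance U ⟨π ⁻¹ᵁ U.1, U.2.preimage π⟩ le_rfl
  rw [← Scheme.Hom.app_eq_appLE] at h
  exact h

theorem finite_strMap (U : X.affineOpens) :
    ((strMap hf hg).app (op U.1)).hom.Finite ∧ ((strMap hf hg).app (op U.1)).hom.Etale := by
  letI := (π.app U.1).hom.toAlgebra
  letI := (ρ.app U.1).hom.toAlgebra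
  haveI : Module.Finite Γ(X, U.1) Γ(Z, π ⁻¹ᵁ U.1) := IsFinite.finite_app π U.1 U.2
  haveI : Module.Finite Γ(X, U.1) Γ(Y, ρ ⁻¹ᵁ U.1) := IsFinite.finite_app ρ U.1 U.2
  haveI : Algebra.Etale Γ(X, U.1) Γ(Z, π ⁻¹ᵁ U.1) := algebraEtale_app U
  haveI : Algebra.Etale Γ(X, U.1) Γ(Y, ρ ⁻¹ᵁ U.1) := algebraEtale_app U
  let E := AlgHom.equalizer (secAlgHom hf U.1) (secAlgHom hg U.1)
  let e : E ≃+* eqRing hf hg U.1 :=
    { toFun := fun x => ⟨x.1, x.2⟩
      invFun := fun x => ⟨x.1, x.2⟩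
      map_mul' := fun _ _ => rfl
      map_add' := fun _ _ => rfl }
  haveI := finite_equalizer (secAlgHom hf U.1) (secAlgHom hg U.1)
  haveI := etale_equalizer (secAlgHom hf U.1) (secAlgHom hg U.1)
  have he : ((strMap hf hg).app (op U.1)).hom = e.toRingHom.comp (algebraMap Γ(X, U.1) E) := rfl
  rw [he]
  exact ⟨RingHom.finite_respectsIso.1 _ e (RingHom.finite_algebraMap.2 inferInstance),
    RingHom.Etale.respectsIso.1 _ e (RingHom.etale_algebraMap.2 inferInstance)⟩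

theorem toBase_local (P : MorphismProperty Scheme.{u}) [IsZariskiLocalAtTarget P]
    (h : ∀ U : X.affineOpens, P (Spec.map ((strMap hf hg).app (op U.1)))) : P (toBase hf hg) := by
  rw [IsZariskiLocalAtTarget.iff_of_iSup_eq_top (P := P) _ (iSup_affineOpens_eq_top _)]
  intro U
  let e := IsOpenImmersion.isoOfRangeEq (toBase hf hg ⁻¹ᵁ U).ι (chart hf hg U)
    (by simpa using congr($(toBase_preimage hf hg U).1))
  rw [← P.cancel_left_of_respectsIso e.inv, ← P.cancel_right_of_respectsIso _ U.2.isoSpec.hom]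
  convert! h U
  rw [← cancel_mono U.2.fromSpec]
  simp [IsAffineOpen.isoSpec_hom, e, chart_toBase]

theorem isFinite_toBase : IsFinite (toBase hf hg) :=
  toBase_local hf hg @IsFinite fun U => (IsFinite.SpecMap_iff _).2 (finite_strMap hf hg U).1

theorem etale_toBase : Etale (toBase hf hg) :=
  toBase_local hf hg @Etale fun U => (HasRingHomProperty.Spec_iff (P := @Etale)).2 (finite_strMap hf hg U).2

section points

variable {Ω : Type u} [Field Ω] [IsAlgClosed Ω]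

omit [IsFinite ρ] [Etale ρ] [Etale π] [IsAlgClosed Ω] in
theorem chart_point [IsAffineHom ρ] (U : X.affineOpens) (σ : Γ(Z, π ⁻¹ᵁ U.1) ⟶ CommRingCat.of Ω) :
    ptOf π U σ ≫ proj hf hg = Spec.map (incl hf hg U.1 ≫ σ) ≫ chart hf hg U := by
  rw [ptOf, Category.assoc, fromSpec_proj, Spec.map_comp, Category.assoc]

theorem exists_point_lift (ξ : Spec (.of Ω) ⟶ X) (w : Spec (.of Ω) ⟶ obj hf hg) (hw : w ≫ toBase hf hg = ξ) :
    ∃ s : Spec (.of Ω) ⟶ Z, s ≫ π = ξ ∧ s ≫ proj hf hg = w := by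
  obtain ⟨U, a, rfl⟩ := exists_chart_point ξ
  have hr : Set.range w ⊆ Set.range (chart hf hg U) := by
    rintro _ ⟨p, rfl⟩
    refine (toBase_preimage hf hg U).le ?_
    change (w ≫ toBase hf hg) p ∈ (U.1 : Set X)
    rw [hw, ← IsAffineOpen.range_fromSpec U.2]
    exact Set.mem_range_self _
  obtain ⟨l, hl⟩ : ∃ l, l ≫ chart hf hg U = w := ⟨_, IsOpenImmersion.lift_fac _ _ hr⟩
  obtain ⟨χ, rfl⟩ := Spec.map_surjective l
  have hχ : (strMap hf hg).app (op U.1) ≫ χ = a := by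
    rw [← hl, Category.assoc, chart_toBase, ← Spec.map_comp_assoc] at hw
    exact Spec.map_injective ((cancel_mono _).1 hw)
  letI := (π.app U.1).hom.toAlgebra
  letI := (ρ.app U.1).hom.toAlgebra
  letI : Algebra Γ(X, U.1) Ω := a.hom.toAlgebra
  haveI : Module.Finite Γ(X, U.1) Γ(Z, π ⁻¹ᵁ U.1) := IsFinite.finite_app π U.1 U.2
  haveI : Module.Finite Γ(X, U.1) Γ(Y, ρ ⁻¹ᵁ U.1) := IsFinite.finite_app ρ U.1 U.2
  haveI : Algebra.Etale Γ(X, U.1) Γ(Z, π ⁻¹ᵁ U.1) := algebraEtale_app U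
  haveI : Algebra.Etale Γ(X, U.1) Γ(Y, ρ ⁻¹ᵁ U.1) := algebraEtale_app U
  let E := AlgHom.equalizer (secAlgHom hf U.1) (secAlgHom hg U.1)
  let χ' : E →ₐ[Γ(X, U.1)] Ω :=
    { toFun := fun x => χ.hom ⟨x.1, x.2⟩
      map_one' := map_one χ.hom
      map_mul' := fun x y => map_mul χ.hom ⟨x.1, x.2⟩ ⟨y.1, y.2⟩
      map_zero' := map_zero χ.hom
      map_add' := fun x y => map_add χ.hom ⟨x.1, x.2⟩ ⟨y.1, y.2⟩
      commutes' := fun r => congr($hχ r) }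
  obtain ⟨s, hs⟩ := exists_extend (secAlgHom hf U.1) (secAlgHom hg U.1) Ω χ'
  refine ⟨ptOf π U (CommRingCat.ofHom s.toRingHom), ?_, ?_⟩
  · rw [ptOf_comp]
    congr 2
    ext r
    exact s.commutes r
  · rw [chart_point, ← hl]
    congr 2
    ext x
    exact AlgHom.congr_fun hs ⟨x.1, x.2⟩

theorem point_eqvGen (ξ : Spec (.of Ω) ⟶ X)
    (R : {s : Spec (.of Ω) ⟶ Z // s ≫ π = ξ} → {s : Spec (.of Ω) ⟶ Z // s ≫ π = ξ} → Prop) (hR : Equivalence R)
    (hfg : ∀ y : Spec (.of Ω) ⟶ Y, (hy : y ≫ ρ = ξ) →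
      R ⟨y ≫ f, by rw [Category.assoc, hf, hy]⟩ ⟨y ≫ g, by rw [Category.assoc, hg, hy]⟩)
    (s s' : {s : Spec (.of Ω) ⟶ Z // s ≫ π = ξ}) (h : s.1 ≫ proj hf hg = s'.1 ≫ proj hf hg) : R s s' := by
  obtain ⟨U, a, rfl⟩ := exists_chart_point ξ
  letI := (π.app U.1).hom.toAlgebra
  letI := (ρ.app U.1).hom.toAlgebra
  letI : Algebra Γ(X, U.1) Ω := a.hom.toAlgebra
  haveI : Module.Finite Γ(X, U.1) Γ(Z, π ⁻¹ᵁ U.1) := IsFinite.finite_app π U.1 U.2
  haveI : Module.Finite Γ(X, U.1) Γ(Y, ρ ⁻¹ᵁ U.1) := IsFinite.finite_app ρ U.1 U.2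
  haveI : Algebra.Etale Γ(X, U.1) Γ(Z, π ⁻¹ᵁ U.1) := algebraEtale_app U
  haveI : Algebra.Etale Γ(X, U.1) Γ(Y, ρ ⁻¹ᵁ U.1) := algebraEtale_app U
  have hpt : ∀ σ : Γ(Z, π ⁻¹ᵁ U.1) →ₐ[Γ(X, U.1)] Ω,
      ptOf π U (CommRingCat.ofHom σ.toRingHom) ≫ π = Spec.map a ≫ U.2.fromSpec := fun σ => by
    rw [ptOf_comp]
    congr 2
    ext r
    exact σ.commutes r
  let pt : (Γ(Z, π ⁻¹ᵁ U.1) →ₐ[Γ(X, U.1)] Ω) → {s : Spec (.of Ω) ⟶ Z // s ≫ π = Spec.map a ≫ U.2.fromSpec} :=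
    fun σ => ⟨_, hpt σ⟩
  have hsurj : ∀ t : {s : Spec (.of Ω) ⟶ Z // s ≫ π = Spec.map a ≫ U.2.fromSpec}, ∃ σ, pt σ = t := by
    intro t
    obtain ⟨σ, hσ, hσa⟩ := exists_ptOf π U a t.2
    exact ⟨⟨σ.hom, fun r => congr($hσa r)⟩, Subtype.ext hσ⟩
  obtain ⟨σ, rfl⟩ := hsurj s
  obtain ⟨σ', rfl⟩ := hsurj s'
  refine mem_of_agree (secAlgHom hf U.1) (secAlgHom hg U.1) Ω {τ | R (pt σ) (pt τ)} ?_ (hR.refl _) ?_
  · intro τ
    have hy : (Spec.map (CommRingCat.ofHom τ.toRingHom) ≫ (U.2.preimage ρ).fromSpec) ≫ ρ =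
        Spec.map a ≫ U.2.fromSpec := by
      rw [← ptOf, ptOf_comp]
      congr 2
      ext r
      exact τ.commutes r
    have hk : ∀ {k : Y ⟶ Z} (hk : k ≫ π = ρ), (pt (τ.comp (secAlgHom hk U.1))).1 =
        (Spec.map (CommRingCat.ofHom τ.toRingHom) ≫ (U.2.preimage ρ).fromSpec) ≫ k := by
      intro k hk
      rw [Category.assoc, ← secMap_fromSpec hk U, ← Spec.map_comp_assoc]
      rfl
    have key : R (pt (τ.comp (secAlgHom hf U.1))) (pt (τ.comp (secAlgHom hg U.1))) := by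
      convert hfg _ hy using 1 <;> exact Subtype.ext (hk _)
    exact ⟨fun h => hR.trans h key, fun h => hR.trans h (hR.symm key)⟩
  · intro x hx
    have h2 : incl hf hg U.1 ≫ CommRingCat.ofHom σ.toRingHom = incl hf hg U.1 ≫ CommRingCat.ofHom σ'.toRingHom := by
      rw [chart_point, chart_point] at h
      exact Spec.map_injective ((cancel_mono _).1 h)
    exact congr($h2 ⟨x, hx⟩)

end points

end Groth.Agent.FEtGalois
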