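import Groth.Agent.S14795
import Groth.Agent.TraceForm.Basic
import Mathlib.RingTheory.Discriminant
import Mathlib.FieldTheory.SeparableDegree
import Mathlib.FieldTheory.IsAlgClosed.AlgebraicClosure
import Mathlib.LinearAlgebra.Matrix.NonsingularInverse
import Mathlib.LinearAlgebra.LinearIndependent.Lemmas
import Mathlib.RingTheory.IntegralClosure.IntegrallyClosed

/-!
# Geometric points of the integral closure of a normal domain
-/

set_option autoImplicit false
set_option linter.style.haveILetI false

universe u

open Polynomial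

namespace Groth.Agent.FEtGalois

variable {A : Type u} [CommRing A] [IsDomain A] [IsIntegrallyClosed A] {K : Type u} [Field K] [Algebra A K] [IsFractionRing A K]
  {Ω : Type u} [Field Ω]

section fixed

variable {E : Type u} [Field E] [Algebra K E] [Algebra A E] [IsScalarTower A K E] [IsAlgClosed E] [Algebra.IsAlgebraic K E]

theorem eq_of_fixed (Φ Φ' : integralClosure A E →+* Ω) (h : ∀ a, Φ (algebraMap A _ a) = Φ' (algebraMap A _ a))
    (x : integralClosure A E) (hx : ∀ τ : E ≃ₐ[K] E, τ (x : E) = x) : Φ x = Φ' x := by
  classical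
  obtain ⟨q, hq⟩ := ExpChar.exists K
  have halg : IsIntegral K (x : E) := Algebra.IsIntegral.isIntegral _
  have h1 : (minpoly K (x : E)).natSepDegree = 1 := by
    rw [natSepDegree_eq_of_isAlgClosed (E := E)]
    refine Finset.card_eq_one.2 ⟨(x : E), Finset.eq_singleton_iff_unique_mem.2 ⟨?_, fun r hr => ?_⟩⟩
    · rw [Multiset.mem_toFinset, mem_aroots]
      exact ⟨minpoly.ne_zero halg, minpoly.aeval _ _⟩
    · rw [Multiset.mem_toFinset, mem_aroots] at hr
      haveI : IsAlgClosure K E := ⟨inferInstance, inferInstance⟩
      obtain ⟨σ, hσ⟩ := minpoly.exists_algEquiv_of_root' (Algebra.IsAlgebraic.isAlgebraic (x : E)) hr.2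
      rw [← hσ, hx σ]
  obtain ⟨m, k, hk⟩ := (minpoly.natSepDegree_eq_one_iff_pow_mem q).1 h1
  have hint : IsIntegral A k := (isIntegral_algHom_iff (IsScalarTower.toAlgHom A K E) (algebraMap K E).injective).1 (by
    show IsIntegral A (algebraMap K E k)
    rw [hk]; exact x.2.pow _)
  obtain ⟨a, rfl⟩ := IsIntegrallyClosed.isIntegral_iff.mp hint
  have hxa : x ^ q ^ m = algebraMap A _ a := Subtype.ext (by
    rw [SubmonoidClass.coe_pow, Subalgebra.coe_algebraMap, ← hk, IsScalarTower.algebraMap_apply A K E])
  have hpow : Φ x ^ q ^ m = Φ' x ^ q ^ m := by rw [← map_pow, ← map_pow, hxa, h]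
  rcases hq with _ | ⟨hp⟩
  · simpa using hpow
  · rename_i p _
    haveI := Fact.mk hp
    haveI : CharP A q := (RingHom.charP_iff (algebraMap A K) (IsFractionRing.injective A K) q).2 inferInstance
    haveI : CharP Ω q := by
      refine CharP.of_ringHom_of_ne_zero (Φ.comp (algebraMap A _)) q hp.ne_zero
    exact iterateFrobenius_inj Ω q m hpow

theorem exists_embedding_family {L : Type u} [Field L] [Algebra K L] [Algebra A L] [IsScalarTower A K L]
    [FiniteDimensional K L] (σ₀ : L →ₐ[K] E) (Φ Φ' : integralClosure A E →+* Ω)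
    (h : ∀ a, Φ (algebraMap A _ a) = Φ' (algebraMap A _ a)) {m : ℕ} (c : Fin m → integralClosure A L) :
    ∃ σ : L →ₐ[K] E, ∀ i, Φ' ((σ₀.restrictScalars A).mapIntegralClosure (c i)) =
      Φ ((σ.restrictScalars A).mapIntegralClosure (c i)) := by
  classical
  haveI : Fintype (L →ₐ[K] E) := Fintype.ofFinite _
  let S : (L →ₐ[K] E) → (integralClosure A E)[X] := fun σ =>
    ∑ i : Fin m, monomial (i : ℕ) ((σ.restrictScalars A).mapIntegralClosure (c i))
  let P : (integralClosure A E)[X][X] := ∏ σ, (X - C (S σ))
  have hfix : ∀ (τ : E ≃ₐ[K] E), P.map (mapRingHom ((τ.toAlgHom.restrictScalars A).mapIntegralClosure).toRingHom) = P := by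
    intro τ
    simp only [P, Polynomial.map_prod, Polynomial.map_sub, map_X, map_C]
    refine Fintype.prod_equiv ⟨fun σ => τ.toAlgHom.comp σ, fun σ => τ.symm.toAlgHom.comp σ,
      fun σ => AlgHom.ext fun y => τ.symm_apply_apply _, fun σ => AlgHom.ext fun y => τ.apply_symm_apply _⟩ _ _ fun σ => ?_
    simp only [S, map_sum, coe_mapRingHom, Polynomial.map_sum, map_monomial]
    rfl
  have hP : P.map (mapRingHom Φ) = P.map (mapRingHom Φ') := by
    refine Polynomial.ext fun i => ?_
    simp only [coeff_map, coe_mapRingHom]
    refine Polynomial.ext fun j => ?_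
    simp only [coeff_map]
    refine eq_of_fixed (K := K) Φ Φ' h _ fun τ => ?_
    have := congrArg (fun Q => (Q.coeff i).coeff j) (hfix τ)
    simp only [coeff_map, coe_mapRingHom] at this
    exact congrArg Subtype.val this
  have h0 : (P.map (mapRingHom Φ)).eval ((S σ₀).map Φ') = 0 := by
    rw [hP]
    simp only [P, Polynomial.map_prod, eval_prod, Polynomial.map_sub, map_X, map_C, eval_sub, eval_X, eval_C]
    exact Finset.prod_eq_zero (Finset.mem_univ σ₀) (sub_self _)
  simp only [P, Polynomial.map_prod, eval_prod, Polynomial.map_sub, map_X, map_C, eval_sub, eval_X, eval_C,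
    Finset.prod_eq_zero_iff, sub_eq_zero, coe_mapRingHom] at h0
  obtain ⟨σ, -, hσ⟩ := h0
  refine ⟨σ, fun i => ?_⟩
  have := congrArg (fun Q => Q.coeff (i : ℕ)) hσ
  simpa [S, coeff_monomial, Fin.val_inj] using this

end fixed

/-- Normal domain, finite extension of its fraction field: as many geometric points over a point as
the degree give a basis with discriminant invertible at the point. -/
theorem exists_basis_discr {L : Type u} [Field L] [Algebra K L] [Algebra A L] [IsScalarTower A K L]
    [FiniteDimensional K L] [IsAlgClosed Ω] (φ : A →+* Ω) {n : ℕ} (hn : n = Module.finrank K L)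
    (χ : Fin n → (integralClosure A L →+* Ω)) (hχ : Function.Injective χ)
    (hφ : ∀ k, (χ k).comp (algebraMap A _) = φ) :
    ∃ (b : Fin n → integralClosure A L) (d : A), φ d ≠ 0 ∧
      algebraMap A K d = Algebra.discr K (fun i => (b i : L)) := by
  classical
  let E := AlgebraicClosure K
  haveI : Algebra.IsIntegral A (integralClosure A E) := integralClosure.AlgebraIsIntegral
  have hAK := IsFractionRing.injective A K
  have hAE : Function.Injective (algebraMap A E) := by
    rw [IsScalarTower.algebraMap_eq A K E]; exact (algebraMap K E).injective.comp hAK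
  have hAI : Function.Injective (algebraMap A (integralClosure A E)) := fun a b h => hAE congr(($h : E))
  obtain ⟨Φ, hΦ⟩ := S14795.exists_extend (⊥ : Subalgebra A (integralClosure A E))
    (φ.comp (Algebra.botEquivOfInjective hAI).toRingEquiv.toRingHom)
  have hΦA : ∀ a, Φ (algebraMap A _ a) = φ a := fun a => by
    refine (RingHom.congr_fun hΦ (algebraMap A _ a)).trans ?_
    exact congrArg φ ((Algebra.botEquivOfInjective hAI).commutes a)
  let ψ : (L →ₐ[K] E) → (integralClosure A L →+* Ω) := fun σ =>
    Φ.comp (σ.restrictScalars A).mapIntegralClosure.toRingHom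
  have hsurj : ∀ k, ∃ σ, ψ σ = χ k := by
    intro k
    by_contra hne
    push Not at hne
    haveI : Fintype (L →ₐ[K] E) := Fintype.ofFinite _
    choose c hc using fun σ => not_forall.1 fun h => hne σ (RingHom.ext h)
    let σ₀ : L →ₐ[K] E := IsAlgClosed.lift
    let ι₀ := (σ₀.restrictScalars A).mapIntegralClosure
    have hι₀ : Function.Injective ι₀ := fun x y h => Subtype.ext (σ₀.toRingHom.injective congr(($h : E)))
    obtain ⟨Φ', hΦ'⟩ := S14795.exists_extend ι₀.range
      ((χ k).comp (AlgEquiv.ofInjective ι₀ hι₀).symm.toRingEquiv.toRingHom)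
    have hΦ'x : ∀ x, Φ' (ι₀ x) = χ k x := fun x => by
      refine (RingHom.congr_fun hΦ' ⟨ι₀ x, ⟨x, rfl⟩⟩).trans ?_
      exact congrArg (χ k) ((AlgEquiv.ofInjective ι₀ hι₀).symm_apply_apply x)
    obtain ⟨σ, hσ⟩ := exists_embedding_family σ₀ Φ Φ' (fun a => by
      rw [hΦA, ← ι₀.commutes a, hΦ'x]; exact (RingHom.congr_fun (hφ k) a).symm)
      (fun i => c ((Fintype.equivFin _).symm i))
    have := hσ (Fintype.equivFin _ σ)
    simp only [Equiv.symm_apply_apply] at this
    exact hc σ (this.symm.trans (hΦ'x _))
  choose s hs using hsurj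
  have hsinj : Function.Injective s := fun i j h => hχ ((hs i).symm.trans ((congrArg ψ h).trans (hs j)))
  have hcard : Field.finSepDegree K L = Nat.card (L →ₐ[K] E) := Field.finSepDegree_eq_of_isAlgClosed K L E
  have hle : n ≤ Field.finSepDegree K L := by
    rw [hcard, ← Nat.card_fin n]
    exact Nat.card_le_card_of_injective s hsinj
  haveI : Algebra.IsSeparable K L :=
    (Field.finSepDegree_eq_finrank_iff K L).1 (le_antisymm (Field.finSepDegree_le_finrank K L) (hn ▸ hle))
  have hsb : Function.Bijective s := hsinj.bijective_of_nat_card_le (by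
    rw [← hcard, Nat.card_fin, hn]; exact Field.finSepDegree_le_finrank K L)
  have hspan : Submodule.span Ω (Set.range fun (c : integralClosure A L) (k : Fin n) => χ k c) = ⊤ := by
    by_contra hne
    obtain ⟨g, hg0, hg⟩ := Submodule.exists_dual_map_eq_bot_of_lt_top (lt_top_iff_ne_top.2 hne) inferInstance
    have hli : LinearIndependent Ω fun k => ((χ k : integralClosure A L →* Ω) : integralClosure A L → Ω) :=
      (linearIndependent_monoidHom (integralClosure A L) Ω).comp (fun k => (χ k : integralClosure A L →* Ω))
        fun i j h => hχ (RingHom.ext fun x => DFunLike.congr_fun h x)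
    have hz := Fintype.linearIndependent_iff.1 hli (fun k => g (Pi.single k 1)) (by
      funext c
      have h1 : g (fun k => χ k c) = 0 := by
        have hm := Submodule.mem_map_of_mem (f := g) (Submodule.subset_span (R := Ω) (Set.mem_range_self
          (f := fun (c : integralClosure A L) (k : Fin n) => χ k c) c))
        rw [hg] at hm
        exact hm
      rw [Pi.zero_apply, ← h1, g.pi_apply_eq_sum_univ (fun k => χ k c)]
      simp only [Finset.sum_apply, Pi.smul_apply, smul_eq_mul]
      refine Finset.sum_congr rfl fun k _ => ?_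
      rw [mul_comm]
      congr 2
      funext j
      simp [Pi.single_apply, eq_comm])
    refine hg0 (LinearMap.ext fun v => ?_)
    rw [g.pi_apply_eq_sum_univ v]
    refine (Finset.sum_eq_zero fun k _ => ?_).trans (LinearMap.zero_apply v).symm
    have : (fun j => if k = j then (1 : Ω) else 0) = Pi.single k 1 := by funext j; simp [Pi.single_apply, eq_comm]
    rw [this, hz k, smul_zero]
  obtain ⟨T, hTsub, hTspan, hTli⟩ := exists_linearIndependent Ω (Set.range fun (c : integralClosure A L) (k : Fin n) => χ k c)
  let bT : Module.Basis T Ω (Fin n → Ω) := Module.Basis.mk hTli (by rw [Subtype.range_coe_subtype, Set.ofPred_mem_eq, hTspan, hspan])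
  haveI : Fintype T := FiniteDimensional.fintypeBasisIndex bT
  have hT : Fintype.card T = n := by rw [← Module.finrank_eq_card_basis bT, Module.finrank_fin_fun]
  let e : Fin n ≃ T := (Fintype.equivFinOfCardEq hT).symm
  choose b hb using fun i => hTsub (e i).2
  let M : Matrix (Fin n) (Fin n) Ω := fun i k => χ k (b i)
  have hM : M.det ≠ 0 := by
    rw [← isUnit_iff_ne_zero, ← Matrix.isUnit_iff_isUnit_det, ← Matrix.linearIndependent_rows_iff_isUnit]
    have : M.row = (Subtype.val : T → Fin n → Ω) ∘ e := funext fun i => hb i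
    rw [this]
    exact hTli.comp _ e.injective
  let N : Matrix (Fin n) (Fin n) (integralClosure A E) := fun i k => ((s k).restrictScalars A).mapIntegralClosure (b i)
  have hNM : N.map Φ = M := by
    ext i k
    exact RingHom.congr_fun (hs k) (b i)
  obtain ⟨d, hd⟩ := IsIntegrallyClosed.isIntegral_iff.mp
    (Algebra.discr_isIntegral K (b := fun i => (b i : L)) (fun i => (b i).2) : IsIntegral A _)
  refine ⟨b, d, ?_, hd⟩
  have hdN : (algebraMap A (integralClosure A E) d : E) = ((N.det ^ 2 : integralClosure A E) : E) := by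
    rw [Subalgebra.coe_algebraMap, IsScalarTower.algebraMap_apply A K E, hd,
      Algebra.discr_eq_det_embeddingsMatrixReindex_pow_two K E (fun i => (b i : L)) (Equiv.ofBijective s hsb),
      SubmonoidClass.coe_pow]
    congr 1
    exact ((integralClosure A E).val.toRingHom.map_det N).symm
  rw [← hΦA, Subtype.ext hdN, map_pow]
  refine pow_ne_zero _ ?_
  rw [Φ.map_det, RingHom.mapMatrix_apply, hNM]
  exact hM

/-- A basis with unit discriminant computes the integral closure and shows that it is finite etale. -/
theorem finite_etale_of_discr {L : Type u} [Field L] [Algebra K L] [Algebra A L] [IsScalarTower A K L]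
    [FiniteDimensional K L] {ι : Type u} [Fintype ι] [DecidableEq ι] (hι : Fintype.card ι = Module.finrank K L)
    (b : ι → integralClosure A L) (d : A) (hd : IsUnit d)
    (hdisc : algebraMap A K d = Algebra.discr K (fun i => (b i : L))) :
    Module.Finite A (integralClosure A L) ∧ Algebra.Etale A (integralClosure A L) := by
  have hne : Algebra.discr K (fun i => (b i : L)) ≠ 0 := hdisc ▸ (hd.map _).ne_zero
  have hli : LinearIndependent K (fun i => (b i : L)) :=
    not_not.1 fun h => hne (Algebra.discr_zero_of_not_linearIndependent K h)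
  haveI : Nonempty ι := Fintype.card_pos_iff.1 (hι ▸ Module.finrank_pos)
  let bL : Module.Basis ι K L := basisOfLinearIndependentOfCardEqFinrank hli hι
  have hbL : ∀ i, bL i = (b i : L) := fun i => congrFun (coe_basisOfLinearIndependentOfCardEqFinrank hli hι) i
  let M := Algebra.traceMatrix K (fun i => (b i : L))
  have hMA : ∀ x : L, IsIntegral A x → ∃ a, algebraMap A K a = Algebra.trace K L x := fun x hx =>
    IsIntegrallyClosed.isIntegral_iff.mp (Algebra.isIntegral_trace hx)
  choose M₀ hM₀ using fun i j => hMA ((b i : L) * (b j : L)) ((b i).2.mul (b j).2)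
  have hM : (Matrix.of M₀).map (algebraMap A K) = M := by ext i j; exact hM₀ i j
  have hdet : IsUnit (Matrix.of M₀).det := by
    have h : (Matrix.of M₀).det = d := IsFractionRing.injective A K (by
      rw [RingHom.map_det, RingHom.mapMatrix_apply, hM, hdisc]; rfl)
    rw [h]; exact hd
  have hcoord : ∀ x : integralClosure A L, ∃ a : ι → A, ∀ i, bL.repr (x : L) i = algebraMap A K (a i) := by
    intro x
    choose t ht using fun i => hMA ((x : L) * (b i : L)) (x.2.mul (b i).2)
    refine ⟨(Matrix.of M₀)⁻¹.mulVec t, fun i => ?_⟩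
    have h1 : ((Matrix.of M₀).map (algebraMap A K)).mulVec (bL.repr (x : L)) = algebraMap A K ∘ t := by
      funext i
      rw [hM, Function.comp_apply, ht]
      conv_rhs => rw [← bL.sum_repr (x : L)]
      simp only [Finset.sum_mul, map_sum, Matrix.mulVec, dotProduct, M, Algebra.traceMatrix_apply,
        Algebra.traceForm_apply, smul_mul_assoc, map_smul, smul_eq_mul, hbL]
      refine Finset.sum_congr rfl fun j _ => ?_
      rw [mul_comm (b i : L), mul_comm]
    have h2 : (((Matrix.of M₀)⁻¹).map (algebraMap A K)).mulVec
        (((Matrix.of M₀).map (algebraMap A K)).mulVec (bL.repr (x : L))) = ⇑(bL.repr (x : L)) := by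
      rw [Matrix.mulVec_mulVec, ← Matrix.map_mul, Matrix.nonsing_inv_mul _ hdet,
        Matrix.map_one _ (map_zero _) (map_one _), Matrix.one_mulVec]
    rw [h1] at h2
    rw [← congrFun h2 i, RingHom.map_mulVec]
  have hsum : ∀ c : ι → A, ((∑ i, c i • b i : integralClosure A L) : L) = ∑ i, algebraMap A K (c i) • (b i : L) :=
    fun c => by simp [algebraMap_smul]
  have hbij : Function.Bijective (Fintype.linearCombination A b) := by
    refine ⟨fun c c' h => funext fun i => IsFractionRing.injective A K ?_, fun x => ?_⟩
    · have h' := congr(($h : L))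
      simp only [Fintype.linearCombination_apply, hsum, ← hbL] at h'
      have := congrArg (fun v => bL.repr v i) h'
      simp only [Module.Basis.repr_sum_self] at this
      exact this
    · obtain ⟨a, ha⟩ := hcoord x
      refine ⟨a, Subtype.ext ?_⟩
      rw [Fintype.linearCombination_apply, hsum]
      conv_rhs => rw [← bL.sum_repr (x : L)]
      simp only [ha, hbL]
  let bB : Module.Basis ι A (integralClosure A L) := .ofEquivFun (LinearEquiv.ofBijective _ hbij).symm
  have hbB : ∀ i, bB i = b i := fun i => by
    simp [bB, Fintype.linearCombination_apply, Pi.single_apply]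
  have hrepr : ∀ (x : integralClosure A L) i, bL.repr (x : L) i = algebraMap A K (bB.repr x i) := fun x i => by
    have hx : (x : L) = ∑ j, algebraMap A K (bB.repr x j) • bL j := by
      conv_lhs => rw [← bB.sum_repr x]
      simp only [hbB, hbL, hsum]
    conv_lhs => rw [hx]
    rw [Module.Basis.repr_sum_self]
  have htr : ∀ x : integralClosure A L, algebraMap A K (Algebra.trace A _ x) = Algebra.trace K L (x : L) := fun x => by
    rw [Algebra.trace_eq_matrix_trace bB, Algebra.trace_eq_matrix_trace bL, Matrix.trace, Matrix.trace, map_sum]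
    refine Finset.sum_congr rfl fun i _ => ?_
    simp only [Matrix.diag_apply, Algebra.leftMulMatrix_eq_repr_mul]
    rw [← hrepr]
    simp [hbB, hbL]
  refine ⟨Module.Finite.of_basis bB, TraceForm.etale_of_isUnit_discr bB ?_⟩
  have h : Algebra.discr A bB = (Matrix.of M₀).det := by
    rw [Algebra.discr_def]
    congr 1
    ext i j
    refine IsFractionRing.injective A K ?_
    rw [Algebra.traceMatrix_apply, Algebra.traceForm_apply, htr, Matrix.of_apply, hM₀]
    simp [hbB]
  rw [h]; exact hdet

end Groth.Agent.FEtGalois
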