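import Groth.Agent.FEtGalois.Galois
import Groth.Agent.FEtGalois.AbsGalois
import Mathlib.CategoryTheory.Galois.IsFundamentalgroup
import Mathlib.CategoryTheory.Galois.Equivalence
import Mathlib.AlgebraicGeometry.Artinian
import Mathlib.RingTheory.Etale.Field

/-!
The Galois category of a field.
-/

set_option autoImplicit false
set_option backward.isDefEq.respectTransparency false
set_option linter.style.haveILetI false

universe u

open CategoryTheory CategoryTheory.Limits AlgebraicGeometry PreGaloisCategory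
open scoped FintypeCatDiscrete

noncomputable section

namespace Groth.Agent.FEtGalois

variable (K : Type u) [Field K]

/-- The base. -/
abbrev specK : Scheme.{u} := Spec (CommRingCat.of K)

/-- The geometric point. -/
abbrev geomK : Spec (CommRingCat.of (AlgebraicClosure K)) ⟶ specK K :=
  Spec.map (CommRingCat.ofHom (algebraMap K (AlgebraicClosure K)))

instance : ConnectedSpace (specK K) :=
  inferInstanceAs (ConnectedSpace (PrimeSpectrum K))

/-- The fibre functor. -/
abbrev fibK : FEt.Cat (specK K) ⥤ FintypeCat.{u} := fiberFin (geomK K)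

variable {K}

/-- The map of spectra of a Galois automorphism. -/
abbrev galMap (σ : Field.absoluteGaloisGroup K) :
    Spec (CommRingCat.of (AlgebraicClosure K)) ⟶ Spec (CommRingCat.of (AlgebraicClosure K)) :=
  Spec.map (CommRingCat.ofHom σ.toAlgHom.toRingHom)

theorem galMap_geomK (σ : Field.absoluteGaloisGroup K) : galMap σ ≫ geomK K = geomK K := by
  rw [← Spec.map_comp]
  congr 1
  ext x
  exact σ.toAlgHom.commutes x

instance mulActionFib (W : FEt.Cat (specK K)) : MulAction (Field.absoluteGaloisGroup K) ((fibK K).obj W) where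
  smul σ s := (⟨galMap σ ≫ s.1, by rw [Category.assoc, s.2, galMap_geomK]⟩ :
    FEt.fiberObj (geomK K) W)
  one_smul s := Subtype.ext (by
    change galMap 1 ≫ s.1 = s.1
    rw [show galMap (1 : Field.absoluteGaloisGroup K) = 𝟙 _ from by
      rw [← Spec.map_id]; rfl, Category.id_comp])
  mul_smul σ τ s := Subtype.ext (by
    change galMap (σ * τ) ≫ s.1 = galMap σ ≫ galMap τ ≫ s.1
    rw [← Category.assoc (galMap σ)]
    congr 1
    rw [← Spec.map_comp]; rfl)

theorem smul_val (σ : Field.absoluteGaloisGroup K) {W : FEt.Cat (specK K)} (s : (fibK K).obj W) :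
    (σ • s).1 = galMap σ ≫ s.1 := rfl

instance : IsNaturalSMul (fibK K) (Field.absoluteGaloisGroup K) where
  naturality g {_ _} f s := Subtype.ext (Category.assoc (galMap g) s.1 f.left)

theorem isAffine_of_finite {Z : Scheme.{u}} (π : Z ⟶ specK K) [IsFinite π] : IsAffine Z :=
  isAffine_of_isAffineHom π

section affine

variable {Z : Scheme.{u}} (π : Z ⟶ specK K) [IsFinite π]

/-- The structure map of the ring of global functions. -/
abbrev strK : K →+* Γ(Z, ⊤) := ((Scheme.ΓSpecIso (CommRingCat.of K)).inv ≫ π.appTop).hom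

theorem finite_strK : (strK π).Finite :=
  RingHom.Finite.comp (IsFinite.finite_app π ⊤ (isAffineOpen_top _))
    (RingHom.Finite.of_surjective _
      (ConcreteCategory.bijective_of_isIso (Scheme.ΓSpecIso (CommRingCat.of K)).inv).2)

omit [IsFinite π] in
theorem exists_ptK [IsAffine Z] {Ω : CommRingCat.{u}} (a : CommRingCat.of K ⟶ Ω) (s : Spec Ω ⟶ Z)
    (h : s ≫ π = Spec.map a) :
    ∃ χ : Γ(Z, ⊤) ⟶ Ω, s = Spec.map χ ≫ Z.isoSpec.inv ∧ χ.hom.comp (strK π) = a.hom := by
  obtain ⟨χ, hχ⟩ := Spec.map_surjective (s ≫ Z.isoSpec.hom)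
  refine ⟨χ, by rw [hχ, Category.assoc, Iso.hom_inv_id, Category.comp_id], ?_⟩
  have h1 : π = Z.isoSpec.hom ≫ Spec.map ((Scheme.ΓSpecIso (CommRingCat.of K)).inv ≫ π.appTop) := by
    rw [Spec.map_comp, ← Category.assoc, Scheme.isoSpec_hom_naturality, Category.assoc]
    simp [Scheme.isoSpec_Spec_hom]
  have h2 : Spec.map ((Scheme.ΓSpecIso (CommRingCat.of K)).inv ≫ π.appTop ≫ χ) = Spec.map a := by
    rw [← Category.assoc, Spec.map_comp, hχ, Category.assoc, ← h1, h]
  exact congrArg CommRingCat.Hom.hom (Spec.map_injective h2)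

end affine

theorem smul_eq_of_fixed (W : FEt.Cat (specK K)) (σ : Field.absoluteGaloisGroup K) (s : (fibK K).obj W) [IsAffine W.left]
    (χ : Γ(W.left, ⊤) ⟶ CommRingCat.of (AlgebraicClosure K)) (hs : s.1 = Spec.map χ ≫ W.left.isoSpec.inv)
    (h : ∀ b, σ.toAlgHom (χ.hom b) = χ.hom b) : σ • s = s := by
  refine Subtype.ext ?_
  rw [smul_val, hs, ← Category.assoc, ← Spec.map_comp]
  congr 2
  ext b
  exact h b

instance continuousSMul (W : FEt.Cat (specK K)) :
    ContinuousSMul (Field.absoluteGaloisGroup K) ((fibK K).obj W) := by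
  rw [continuousSMul_iff_stabilizer_isOpen]
  intro s
  haveI : IsAffine W.left := isAffine_of_finite (Z := W.left) W.hom
  obtain ⟨χ, hs, hχ⟩ := exists_ptK (Z := W.left) W.hom _ s.1 s.2
  letI : Algebra K Γ(W.left, ⊤) := (strK (Z := W.left) W.hom).toAlgebra
  haveI : Module.Finite K Γ(W.left, ⊤) := finite_strK (Z := W.left) W.hom
  let χ' : Γ(W.left, ⊤) →ₐ[K] AlgebraicClosure K := ⟨χ.hom, fun r => RingHom.congr_fun hχ r⟩
  obtain ⟨t, ht⟩ := (inferInstance : Module.Finite K Γ(W.left, ⊤)).fg_top
  let E : IntermediateField K (AlgebraicClosure K) := IntermediateField.adjoin K (χ' '' t)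
  haveI : Finite (χ' '' t : Set (AlgebraicClosure K)) := (t.finite_toSet.image _).to_subtype
  haveI : FiniteDimensional K E :=
    IntermediateField.finiteDimensional_adjoin fun x _ => (Algebra.IsAlgebraic.isAlgebraic x).isIntegral
  refine Subgroup.isOpen_mono ?_ (IntermediateField.fixingSubgroup_isOpen E)
  intro σ hσ
  refine smul_eq_of_fixed W σ s χ hs fun b => ?_
  have hb : b ∈ Submodule.span K (t : Set Γ(W.left, ⊤)) := by rw [ht]; trivial
  change σ.toAlgHom.toLinearMap.comp χ'.toLinearMap b = χ'.toLinearMap b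
  refine LinearMap.eqOn_span (fun x hx => ?_) hb
  exact (IntermediateField.mem_fixingSubgroup_iff _ _).1 hσ _
    (IntermediateField.subset_adjoin _ _ ⟨x, hx, rfl⟩)

theorem exists_smul_eq_of_connected (W : FEt.Cat (specK K)) [PreGaloisCategory.IsConnected W]
    (s t : (fibK K).obj W) : ∃ σ : Field.absoluteGaloisGroup K, σ • s = t := by
  haveI : IsAffine W.left := isAffine_of_finite (Z := W.left) W.hom
  haveI : DiscreteTopology W.left := by
    letI : Algebra K Γ(W.left, ⊤) := (strK (Z := W.left) W.hom).toAlgebra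
    haveI : Module.Finite K Γ(W.left, ⊤) := finite_strK (Z := W.left) W.hom
    haveI : IsArtinianRing Γ(W.left, ⊤) := IsArtinianRing.of_finite K _
    haveI : DiscreteTopology (Spec Γ(W.left, ⊤)) :=
      inferInstanceAs (DiscreteTopology (PrimeSpectrum Γ(W.left, ⊤)))
    exact W.left.isoSpec.hom.homeomorph.symm.discreteTopology
  let y := s.1 default
  let V : W.left.Opens := ⟨{y}, isOpen_discrete _⟩
  haveI : IsClosedImmersion V.ι := IsClosedImmersion.of_isPreimmersion _ (isClosed_discrete _)
  let N : FEt.Cat (specK K) := MorphismProperty.Over.mk _ (V.ι ≫ W.hom) ⟨inferInstance, inferInstance⟩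
  let i : N ⟶ W := MorphismProperty.Over.homMk V.ι rfl
  haveI : Mono i := ⟨fun a b hab => hom_ext' ((cancel_mono V.ι).1 (congrArg (fun k => k.left) hab))⟩
  have hni : IsInitial N → False := by
    intro hN
    have : IsEmpty N.left :=
      ⟨fun z => IsEmpty.false (α := (∅ : Scheme.{u})) ((hN.to emptyObj).left z)⟩
    exact this.false ⟨y, rfl⟩
  haveI := PreGaloisCategory.IsConnected.noTrivialComponent N i hni
  have hall : ∀ z : W.left, z = y := by
    intro z
    have h1 : (inv i).left ≫ V.ι = 𝟙 W.left :=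
      congrArg (fun k => k.left) (IsIso.inv_hom_id i)
    have h2 := congr($(h1) z)
    rw [← show V.ι ((inv i).left z) = z from h2]
    exact ((inv i).left z).2
  obtain ⟨χ, hs, hχ⟩ := exists_ptK (Z := W.left) W.hom _ s.1 s.2
  obtain ⟨χ', ht, hχ'⟩ := exists_ptK (Z := W.left) W.hom _ t.1 t.2
  letI : Algebra K Γ(W.left, ⊤) := (strK (Z := W.left) W.hom).toAlgebra
  haveI : Subsingleton W.left := ⟨fun a b => (hall a).trans (hall b).symm⟩
  haveI : Subsingleton (Spec Γ(W.left, ⊤)) := W.left.isoSpec.hom.homeomorph.symm.injective.subsingleton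
  have hker : RingHom.ker χ'.hom = RingHom.ker χ.hom :=
    congrArg PrimeSpectrum.asIdeal (Subsingleton.elim (α := Spec Γ(W.left, ⊤))
      ⟨RingHom.ker χ'.hom, RingHom.ker_isPrime _⟩ ⟨RingHom.ker χ.hom, RingHom.ker_isPrime _⟩)
  haveI : (RingHom.ker χ.hom).IsPrime := RingHom.ker_isPrime _
  haveI : Module.Finite K Γ(W.left, ⊤) := finite_strK (Z := W.left) W.hom
  haveI : IsArtinianRing Γ(W.left, ⊤) := IsArtinianRing.of_finite K _
  haveI : (RingHom.ker χ.hom).IsMaximal := inferInstance
  let L := Γ(W.left, ⊤) ⧸ RingHom.ker χ.hom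
  letI : Field L := Ideal.Quotient.field _
  let ψ : L →ₐ[K] AlgebraicClosure K :=
    Ideal.Quotient.liftₐ _ ⟨χ.hom, fun r => RingHom.congr_fun hχ r⟩ fun a ha => ha
  let ψ' : L →ₐ[K] AlgebraicClosure K :=
    Ideal.Quotient.liftₐ _ ⟨χ'.hom, fun r => RingHom.congr_fun hχ' r⟩ fun a ha => hker.ge ha
  obtain ⟨φ, hφ⟩ : ∃ φ : AlgebraicClosure K →ₐ[K] AlgebraicClosure K, φ.comp ψ = ψ' := by
    letI : Algebra L (AlgebraicClosure K) := ψ.toRingHom.toAlgebra
    haveI : IsScalarTower K L (AlgebraicClosure K) := .of_algebraMap_eq fun r => (ψ.commutes r).symm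
    haveI : Algebra.IsAlgebraic L (AlgebraicClosure K) := Algebra.IsAlgebraic.tower_top (K := K) L
    obtain ⟨q, hq⟩ := IsAlgClosed.surjective_domRestrict_of_isAlgebraic (K := K)
      (M := AlgebraicClosure K) (L := L) (E := AlgebraicClosure K) ψ'
    exact ⟨q, hq⟩
  refine ⟨AlgEquiv.ofBijective φ (Algebra.IsAlgebraic.algHom_bijective φ), Subtype.ext ?_⟩
  rw [smul_val, hs, ht, ← Category.assoc, ← Spec.map_comp]
  congr 2
  ext b
  exact AlgHom.congr_fun hφ (Ideal.Quotient.mk _ b)

theorem eq_one_of_trivial (σ : Field.absoluteGaloisGroup K)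
    (h : ∀ (W : FEt.Cat (specK K)) (s : (fibK K).obj W), σ • s = s) : σ = 1 := by
  refine algEquiv_eq_one_of_separable K σ fun x hx => ?_
  let L : IntermediateField K (AlgebraicClosure K) := IntermediateField.adjoin K {x}
  haveI : FiniteDimensional K L :=
    IntermediateField.adjoin.finiteDimensional (Algebra.IsAlgebraic.isAlgebraic x).isIntegral
  haveI : Algebra.IsSeparable K L :=
    (IntermediateField.isSeparable_adjoin_simple_iff_isSeparable K _).2 (mem_separableClosure_iff.1 hx)
  haveI : Algebra.FormallyEtale K L := Algebra.FormallyEtale.of_isSeparable K L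
  haveI : Algebra.Etale K L := ⟨inferInstance, Algebra.FinitePresentation.of_finiteType.1 inferInstance⟩
  let a := CommRingCat.ofHom (algebraMap K L)
  let N : FEt.Cat (specK K) := MorphismProperty.Over.mk _ (Spec.map a)
    ⟨(IsFinite.SpecMap_iff _).2 (RingHom.finite_algebraMap.2 inferInstance),
      (HasRingHomProperty.Spec_iff (P := @Etale)).2 (RingHom.etale_algebraMap.2 inferInstance)⟩
  let p : (fibK K).obj N := (⟨Spec.map (CommRingCat.ofHom L.val.toRingHom), by
    change _ ≫ Spec.map a = _
    rw [← Spec.map_comp]; rfl⟩ : FEt.fiberObj (geomK K) N)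
  have h2 : galMap σ ≫ Spec.map (CommRingCat.ofHom L.val.toRingHom) = Spec.map (CommRingCat.ofHom L.val.toRingHom) :=
    congrArg Subtype.val (h N p)
  rw [← Spec.map_comp] at h2
  exact congr($(Spec.map_injective h2) ⟨x, IntermediateField.mem_adjoin_simple_self K x⟩)

instance : GaloisCategory (FEt.Cat (specK K)) := galoisCategory (geomK K)

instance : FiberFunctor (fibK K) := fiberFunctor (geomK K)

instance isFundamentalGroup : IsFundamentalGroup (fibK K) (Field.absoluteGaloisGroup K) where
  transitive_of_isGalois W := ⟨exists_smul_eq_of_connected W⟩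
  continuous_smul := continuousSMul
  non_trivial' := eq_one_of_trivial

end Groth.Agent.FEtGalois
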